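import Cfsg.Agent.Lib.Spor.SuzRec.SideFacts
import Cfsg.Agent.Lib.Spor.SuzRec.CheckAut

/-! The automorphisms of collinearity in the hexagon are at most twice as many as `G₂(4)`. -/

set_option autoImplicit false
set_option maxRecDepth 100000

open Cfsg.Agent.Spor.Cos Finset

namespace Cfsg.Agent.Spor.SuzRec

/-- The base point. -/
noncomputable def hexP : Fin hexA.N := hexOk.o

/-- Collinearity. -/
def Col (p q : Fin hexA.N) : Prop := bit (hexMaskT.at p) q = true

theorem conn_edges {A : Act} {W : List (List ℕ)} (Pr : ℕ → Prop) :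
    ∀ (T : List (ℕ × ℕ × ℕ)) (seen : ℕ), (∀ e ∈ T, A.go (W.getD e.2.2 []) e.2.1 = e.1 → e.2.2 < W.length →
        Pr e.2.1 → Pr e.1) → connB A W T seen = true → (∀ x, bit seen x = true → Pr x) → ∀ e ∈ T, Pr e.1
  | [], _, _, _, _ => by simp
  | e :: T, seen, hstep, h, hs => by
    have h' : (Nat.blt e.2.2 W.length && bit seen e.2.1 &&
        Nat.beq (A.go (W.getD e.2.2 []) e.2.1) e.1 && force (Nat.lor (1 <<< e.1) seen) (connB A W T)) = true := h
    rw [force_eq] at h'
    simp only [Bool.and_eq_true] at h'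
    obtain ⟨⟨⟨h1, h2⟩, h3⟩, h4⟩ := h'
    have he : Pr e.1 :=
      hstep e (List.mem_cons_self ..) (Nat.eq_of_beq_eq_true h3) (Nat.le_of_ble_eq_true h1) (hs _ h2)
    intro e' he'
    rcases List.mem_cons.1 he' with rfl | he'
    · exact he
    · refine conn_edges Pr T _ (fun d hd => hstep d (List.mem_cons_of_mem _ hd)) h4 (fun y hy => ?_) e' he'
      rw [bit_eq, show Nat.lor (1 <<< e.1) seen = 1 <<< e.1 ||| seen from rfl, Nat.testBit_or, Nat.one_shiftLeft,
        Nat.testBit_two_pow, Bool.or_eq_true, decide_eq_true_eq] at hy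
      rcases hy with rfl | hy
      · exact he
      · exact hs y (by rw [bit_eq]; exact hy)

theorem mask_clL {p : ℕ} (hp : p < 1365) : hexMaskT.at p = maskOf (clL p) :=
  Nat.eq_of_beq_eq_true (mask_ok p hp)

/-- The bits of a point are the translate of the base's twenty points. -/
theorem mask_translate (p : Fin hexA.N) : ∃ y : H0, hexH.θ y hexP = p ∧
    ∀ q, bit (hexMaskT.at p) q = true ↔ ∃ t : Fin hexA.N, (t : ℕ) ∈ ptsOf hexO20 ∧ (hexH.θ y t : ℕ) = q := by
  let Pr : ℕ → Prop := fun x => ∃ y : H0, (hexH.θ y hexP : ℕ) = x ∧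
    ∀ q, bit (hexMaskT.at x) q = true ↔ ∃ t : Fin hexA.N, (t : ℕ) ∈ ptsOf hexO20 ∧ (hexH.θ y t : ℕ) = q
  suffices h : Pr p by
    obtain ⟨y, hy, hq⟩ := h
    exact ⟨y, Fin.ext hy, hq⟩
  have hs := subParts hexOk.sub
  have htree := hs.tree
  simp only [chkTree, Bool.and_eq_true] at htree
  have hroot : Pr hexRoot := by
    refine ⟨1, by rw [map_one]; rfl, fun q => ?_⟩
    rw [Nat.eq_of_beq_eq_true clRoot_ok, bit_maskOf, map_one]
    constructor
    · exact fun hq => ⟨⟨q, tree_lt hexOk.suborbits.1 hq⟩, hq, rfl⟩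
    · rintro ⟨t, ht, rfl⟩; exact ht
  have hp : (p : ℕ) ∈ ptsOf (hexRoot, hexTree) := by
    rw [← bit_maskOf, show maskOf (ptsOf (hexRoot, hexTree)) = fullMask from Nat.eq_of_beq_eq_true hs.full,
      fullMask_bit]
    exact p.2
  rcases List.mem_cons.1 hp with e | hp
  · rw [e]; exact hroot
  obtain ⟨e, he, hep⟩ := List.mem_map.1 hp
  rw [← hep]
  refine conn_edges (A := hexA) (W := genW) Pr hexTree (1 <<< hexRoot) (fun d hd hgo hk ⟨y, hy, hq⟩ => ?_) htree.1.2
    (fun x hx => ?_) e he
  · have hk' : d.2.2 < 6 := hk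
    have hw : genW.getD d.2.2 [] = [d.2.2] := by
      have : ∀ k < 6, genW.getD k [] = [k] := by decide
      exact this _ hk'
    rw [hw] at hgo
    have hlt : ∀ s ∈ [d.2.2], s < 6 := by simpa using hk'
    refine ⟨ev gH [d.2.2] * y, ?_, fun q => ?_⟩
    · rw [map_mul, Equiv.Perm.mul_apply]
      exact (hexH.spec _ hlt _).trans (by rw [hy]; exact hgo)
    · have hpar : d.2.1 < 1365 := hy ▸ (hexH.θ y hexP).2
      rw [Nat.eq_of_beq_eq_true (List.all_eq_true.1 clEdge_ok d hd), bit_maskOf, List.mem_map]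
      constructor
      · rintro ⟨z, hz, rfl⟩
        obtain ⟨t, ht, ht'⟩ := (hq z).1 (by rw [mask_clL hpar]; exact bit_maskOf.2 hz)
        refine ⟨t, ht, ?_⟩
        rw [map_mul, Equiv.Perm.mul_apply]
        exact (hexH.spec _ hlt _).trans (by rw [ht', Act.go_cons, Act.go_nil])
      · rintro ⟨t, ht, rfl⟩
        refine ⟨_, bit_maskOf.1 (mask_clL hpar ▸ (hq (hexH.θ y t : ℕ)).2 ⟨t, ht, rfl⟩), ?_⟩
        rw [map_mul, Equiv.Perm.mul_apply]
        exact ((hexH.spec _ hlt _).trans (by rw [Act.go_cons, Act.go_nil])).symm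
  · rw [bit_eq, Nat.one_shiftLeft, Nat.testBit_two_pow, decide_eq_true_eq] at hx
    exact hx ▸ hroot

theorem col_translate (p : Fin hexA.N) : ∃ y : H0, hexH.θ y hexP = p ∧
    ∀ q, Col p q ↔ ((hexH.θ y⁻¹ q : Fin hexA.N) : ℕ) ∈ ptsOf hexO20 := by
  obtain ⟨y, hy, hq⟩ := mask_translate p
  refine ⟨y, hy, fun q => ?_⟩
  rw [Col, hq]
  constructor
  · rintro ⟨t, ht, e⟩
    rw [← Fin.ext e, map_inv, show (hexH.θ y)⁻¹ (hexH.θ y t) = t from (hexH.θ y).symm_apply_apply t]
    exact ht
  · intro h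
    exact ⟨_, h, by rw [map_inv]; exact congrArg Fin.val ((hexH.θ y).apply_symm_apply q)⟩

theorem bit_lt {p : Fin hexA.N} {q : ℕ} (h : bit (hexMaskT.at p) q = true) : q < hexA.N := by
  obtain ⟨y, -, hq⟩ := mask_translate p
  obtain ⟨t, -, rfl⟩ := (hq q).1 h
  exact (hexH.θ y t).2

theorem land_eq_zero {z w : Fin hexA.N} : Nat.land (hexMaskT.at z) (hexMaskT.at w) = 0 ↔
    ∀ x : Fin hexA.N, ¬ (Col z x ∧ Col w x) := by
  constructor
  · intro h x ⟨h1, h2⟩
    have : bit (Nat.land (hexMaskT.at z) (hexMaskT.at w)) x = true := by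
      rw [bit_eq, show Nat.land (hexMaskT.at z) (hexMaskT.at w) = hexMaskT.at z &&& hexMaskT.at w from rfl,
        Nat.testBit_and, ← bit_eq, ← bit_eq, show bit (hexMaskT.at z) x = true from h1,
        show bit (hexMaskT.at w) x = true from h2]
      rfl
    rw [h, bit_eq, Nat.zero_testBit] at this
    cases this
  · intro h
    refine Nat.eq_of_testBit_eq fun q => ?_
    rw [show Nat.land (hexMaskT.at z) (hexMaskT.at w) = hexMaskT.at z &&& hexMaskT.at w from rfl, Nat.testBit_and,
      Nat.zero_testBit, ← bit_eq, ← bit_eq, Bool.and_eq_false_iff]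
    by_contra hc
    rw [not_or, Bool.not_eq_false, Bool.not_eq_false] at hc
    exact h ⟨q, bit_lt hc.1⟩ ⟨hc.1, hc.2⟩

/-- The automorphisms fixing the points of some bits. -/
def fixM (m : ℕ) : Subgroup (Equiv.Perm (Fin hexA.N)) where
  carrier := {π | (∀ p q, Col (π p) (π q) ↔ Col p q) ∧ ∀ p : Fin hexA.N, bit m p = true → π p = p}
  one_mem' := ⟨fun _ _ => Iff.rfl, fun _ _ => rfl⟩
  mul_mem' := fun {a b} ha hb => ⟨fun p q => (ha.1 (b p) (b q)).trans (hb.1 p q), fun p hp => by
    show a (b p) = p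
    rw [hb.2 p hp, ha.2 p hp]⟩
  inv_mem' := fun {a} ha => ⟨fun p q => by
    have h := ha.1 (a⁻¹ p) (a⁻¹ q)
    rw [show a (a⁻¹ p) = p from a.apply_symm_apply p, show a (a⁻¹ q) = q from a.apply_symm_apply q] at h
    exact h.symm, fun p hp => by
    conv_lhs => rw [← ha.2 p hp]
    exact a.symm_apply_apply p⟩

theorem card_fix_le : ∀ (L : List (ℕ × ℕ × ℕ × List ℕ)) (m : ℕ), chkSteps L m = true →
    (∀ q, bit m q = true → q < hexA.N) → Nat.card (fixM m) ≤ stepsProd L
  | [], m, h, _ => by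
    have h' : Nat.beq m fullMask = true := h
    have : fixM m = ⊥ := (Subgroup.eq_bot_iff_forall _).2 fun π hπ => Equiv.ext fun p =>
      hπ.2 p (by rw [Nat.eq_of_beq_eq_true h', fullMask_bit]; exact p.2)
    rw [this, Subgroup.card_bot]
    exact le_rfl
  | (z, a, k, W) :: L, m, h, hm => by
    classical
    have h' : (Nat.blt z 1365 && !bit m z && bit m a && (W.all fun w => bit m w) &&
        bit (maskOf (clL a)) z && Nat.ble (cands z a W).length k &&
        force (Nat.lor (1 <<< z) m) (chkSteps L)) = true := h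
    rw [force_eq] at h'
    simp only [Bool.and_eq_true, Bool.not_eq_true', List.all_eq_true] at h'
    obtain ⟨⟨⟨⟨⟨⟨hz, hzm⟩, ham⟩, hWm⟩, hza⟩, hk⟩, hrest⟩ := h'
    have hz' : z < hexA.N := Nat.le_of_ble_eq_true hz
    have ih := card_fix_le L _ hrest (fun q hq => by
      rw [bit_eq, show Nat.lor (1 <<< z) m = 1 <<< z ||| m from rfl, Nat.testBit_or, Nat.one_shiftLeft,
        Nat.testBit_two_pow, Bool.or_eq_true, decide_eq_true_eq] at hq
      rcases hq with rfl | hq
      · exact hz'
      · exact hm q (by rw [bit_eq]; exact hq))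
    let x : Fin hexA.N := ⟨z, hz'⟩
    have hst := Nat.card_congr (MulAction.orbitProdStabilizerEquivGroup (fixM m) x)
    rw [Nat.card_prod] at hst
    have hs : Nat.card (MulAction.stabilizer (fixM m) x) ≤ Nat.card (fixM (Nat.lor (1 <<< z) m)) :=
      Nat.card_le_card_of_injective (fun π => (⟨π.1.1, π.1.2.1, fun y hy => by
        rw [bit_eq, show Nat.lor (1 <<< z) m = 1 <<< z ||| m from rfl, Nat.testBit_or, Nat.one_shiftLeft,
          Nat.testBit_two_pow, Bool.or_eq_true, decide_eq_true_eq] at hy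
        rcases hy with e | e
        · rw [show y = x from Fin.ext e.symm]; exact π.2
        · exact π.1.2.2 y (by rw [bit_eq]; exact e)⟩ : fixM (Nat.lor (1 <<< z) m))) fun π ρ e =>
        Subtype.ext (Subtype.ext (congrArg (fun z : fixM (Nat.lor _ m) => (z : Equiv.Perm (Fin hexA.N))) e))
    show _ ≤ stepsProd ((z, a, k, W) :: L)
    rw [show stepsProd ((z, a, k, W) :: L) = k * stepsProd L from List.prod_cons, ← hst]
    refine Nat.mul_le_mul ?_ (hs.trans ih)
    rw [Nat.card_coe_set_eq]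
    have hsub : MulAction.orbit (fixM m) x ⊆ ((listSet (cands z a W) : Finset (Fin hexA.N)) : Set (Fin hexA.N)) := by
      rintro _ ⟨⟨π, hπ⟩, rfl⟩
      rw [mem_coe, mem_listSet, cands, force_eq, List.mem_filter]
      show ((π x : Fin hexA.N) : ℕ) ∈ clL a ∧ _
      have hxfix : ∀ w : Fin hexA.N, bit m w = true → (π x : ℕ) ≠ w := fun w hw e => by
        have h1 : π x = π w := (Fin.ext e).trans (hπ.2 w hw).symm
        have h2 := congrArg Fin.val (π.injective h1)
        rw [← h2] at hw
        exact Bool.false_ne_true (hzm.symm.trans hw)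
      have hlt : ∀ w ∈ W, w < 1365 → bit (hexMaskT.at z) w = bit (hexMaskT.at (π x : ℕ)) w ∧
          (Nat.land (hexMaskT.at z) (hexMaskT.at w) = 0 ↔
            Nat.land (hexMaskT.at (π x : ℕ)) (hexMaskT.at w) = 0) := by
        intro w hw hw'
        let y : Fin hexA.N := ⟨w, hw'⟩
        have hy : π y = y := hπ.2 y (hWm w hw)
        constructor
        · rw [Bool.eq_iff_iff]
          show Col x y ↔ Col (π x) y
          conv_rhs => rw [← hy, hπ.1]
        · show Nat.land (hexMaskT.at (x : ℕ)) (hexMaskT.at (y : ℕ)) = 0 ↔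
            Nat.land (hexMaskT.at (π x : ℕ)) (hexMaskT.at (y : ℕ)) = 0
          rw [land_eq_zero, land_eq_zero]
          constructor
          · intro hh t ⟨t1, t2⟩
            obtain ⟨t', rfl⟩ := π.surjective t
            rw [hπ.1] at t1
            rw [← hy, hπ.1] at t2
            exact hh t' ⟨t1, t2⟩
          · intro hh t ⟨t1, t2⟩
            exact hh (π t) ⟨(hπ.1 _ _).2 t1, by rw [← hy, hπ.1]; exact t2⟩
      have ha : a < hexA.N := hm a ham
      refine ⟨?_, ?_⟩
      · have e : π ⟨a, ha⟩ = ⟨a, ha⟩ := hπ.2 _ ham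
        have hc : Col (π ⟨a, ha⟩) (π x) := by
          rw [hπ.1]
          show bit (hexMaskT.at a) z = true
          rw [mask_clL ha]
          exact hza
        rw [e] at hc
        rw [← bit_maskOf, ← mask_clL ha]
        exact hc
      · rw [Bool.and_eq_true, List.all_eq_true, samePat, List.all_eq_true]
        refine ⟨fun w hw => ?_, fun w hw => ?_⟩
        · rw [Bool.not_eq_true', Bool.eq_false_iff]
          intro e
          have e' : ((π x : Fin hexA.N) : ℕ) = w := Nat.eq_of_beq_eq_true e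
          exact hxfix ⟨w, e' ▸ (π x).2⟩ (hWm w hw) e'
        · obtain ⟨h1, h2⟩ := hlt w hw (hm w (hWm w hw))
          simp only [force_eq, Bool.and_eq_true]
          show (bif bit (hexMaskT.at z) w then bit (hexMaskT.at (π x : ℕ)) w
              else !bit (hexMaskT.at (π x : ℕ)) w) = true ∧
            (bif Nat.beq (Nat.land (hexMaskT.at z) (hexMaskT.at w)) 0 then
              Nat.beq (Nat.land (hexMaskT.at (π x : ℕ)) (hexMaskT.at w)) 0
              else !Nat.beq (Nat.land (hexMaskT.at (π x : ℕ)) (hexMaskT.at w)) 0) = true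
          refine ⟨?_, ?_⟩
          · rw [← h1]; cases bit (hexMaskT.at z) w <;> rfl
          · by_cases h0 : Nat.land (hexMaskT.at z) (hexMaskT.at w) = 0
            · rw [h0, h2.1 h0]; rfl
            · rw [show Nat.beq (Nat.land (hexMaskT.at z) (hexMaskT.at w)) 0 = false from
                Bool.eq_false_iff.2 fun e => h0 (Nat.eq_of_beq_eq_true e), Bool.cond_false, Bool.not_eq_true',
                Bool.eq_false_iff]
              exact fun e => h0 (h2.2 (Nat.eq_of_beq_eq_true e))
    refine (Set.ncard_le_ncard hsub).trans ?_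
    rw [Set.ncard_coe_finset]
    refine le_trans ?_ (Nat.le_of_ble_eq_true hk)
    calc #(listSet (cands z a W) : Finset (Fin hexA.N)) ≤ (cands z a W).toFinset.card :=
          card_le_card_of_injOn (fun p => (p : ℕ)) (fun p hp => by
            simpa [mem_listSet] using hp) fun p _ q _ e => Fin.ext e
      _ ≤ (cands z a W).length := List.toFinset_card_le _

theorem card_col_le (F : Subgroup (Equiv.Perm (Fin hexA.N))) (hF : ∀ π ∈ F, ∀ p q, Col (π p) (π q) ↔ Col p q) :
    Nat.card F ≤ 503193600 := by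
  classical
  rw [← steps_prod]
  have hst := Nat.card_congr (MulAction.orbitProdStabilizerEquivGroup F hexP)
  rw [Nat.card_prod] at hst
  rw [← hst]
  have hs : Nat.card (MulAction.stabilizer F hexP) ≤ stepsProd autSteps := by
    refine le_trans ?_ (card_fix_le autSteps 1 steps_ok fun q hq => ?_)
    · refine Nat.card_le_card_of_injective
        (fun π : MulAction.stabilizer F hexP => (⟨π.1.1, hF _ π.1.2, fun p hp => ?_⟩ : fixM 1)) fun π ρ e =>
          Subtype.ext (Subtype.ext (congrArg (fun z : fixM 1 => (z : Equiv.Perm (Fin hexA.N))) e))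
      rw [bit_eq, show (1 : ℕ) = 2 ^ 0 from rfl, Nat.testBit_two_pow, decide_eq_true_eq] at hp
      rw [show p = hexP from Fin.ext (hp.symm.trans (show (0 : ℕ) = hexRoot by decide +kernel))]
      exact π.2
    · rw [bit_eq, show (1 : ℕ) = 2 ^ 0 from rfl, Nat.testBit_two_pow, decide_eq_true_eq] at hq
      subst hq
      decide
  refine Nat.mul_le_mul ?_ hs
  refine (Nat.card_le_card_of_injective (Subtype.val : MulAction.orbit F hexP → Fin hexA.N)
    Subtype.val_injective).trans ?_
  rw [Nat.card_fin]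
  exact le_rfl

end Cfsg.Agent.Spor.SuzRec
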