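import Cfsg.Agent.Lib.Spor.SuzRec.STree

/-! Sets of small numbers as bit strings, and trees of orbits. -/

set_option autoImplicit false

open Cfsg.Agent.Spor.Cos

namespace Cfsg.Agent.Spor.SuzRec

/-- A bit. -/
noncomputable def bit (m p : ℕ) : Bool := Nat.beq ((m >>> p) % 2) 1

/-- A list as bits. -/
noncomputable def maskOf (l : List ℕ) : ℕ :=
  List.rec (motive := fun _ => ℕ) 0 (fun x _ r => force r fun r' => Nat.lor (1 <<< x) r') l

theorem bit_eq (m p : ℕ) : bit m p = m.testBit p := by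
  rw [bit, Nat.testBit, Nat.one_and_eq_mod_two]
  rcases Nat.mod_two_eq_zero_or_one (m >>> p) with h | h <;> rw [h] <;> rfl

theorem maskOf_cons (x : ℕ) (l : List ℕ) : maskOf (x :: l) = 1 <<< x ||| maskOf l := by
  show force (maskOf l) _ = _
  rw [force_eq]; rfl

theorem bit_maskOf {l : List ℕ} {q : ℕ} : bit (maskOf l) q = true ↔ q ∈ l := by
  induction l with
  | nil => simp [maskOf, bit_eq]
  | cons x l ih =>
    rw [bit_eq] at ih ⊢
    rw [maskOf_cons, Nat.testBit_or, Nat.one_shiftLeft, Nat.testBit_two_pow, Bool.or_eq_true, ih, List.mem_cons,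
      decide_eq_true_eq]
    exact or_congr_left eq_comm

theorem maskOf_eq {l l' : List ℕ} : maskOf l = maskOf l' ↔ ∀ q, q ∈ l ↔ q ∈ l' := by
  refine ⟨fun h q => by rw [← bit_maskOf, h, bit_maskOf], fun h => Nat.eq_of_testBit_eq fun q => ?_⟩
  rw [← bit_eq, ← bit_eq, Bool.eq_iff_iff, bit_maskOf, bit_maskOf, h]

/-- No repetition, above some bits already seen. -/
noncomputable def ndFrom (l : List ℕ) : ℕ → Bool :=
  List.rec (motive := fun _ => ℕ → Bool) (fun _ => true)
    (fun x _ r m => !bit m x && force (Nat.lor (1 <<< x) m) r) l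

/-- No repetition. -/
noncomputable def ndB (l : List ℕ) : Bool := ndFrom l 0

theorem ndFrom_spec : ∀ {l : List ℕ} {m : ℕ}, ndFrom l m = true → l.Nodup ∧ ∀ x ∈ l, bit m x = false
  | [], _, _ => ⟨List.nodup_nil, by simp⟩
  | x :: l, m, h => by
    have h' : (!bit m x && force (Nat.lor (1 <<< x) m) (ndFrom l)) = true := h
    rw [force_eq, Bool.and_eq_true, Bool.not_eq_true'] at h'
    obtain ⟨h1, h2⟩ := ndFrom_spec h'.2
    have hb : ∀ y, bit (Nat.lor (1 <<< x) m) y = (decide (x = y) || bit m y) := fun y => by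
      rw [bit_eq, bit_eq, show Nat.lor (1 <<< x) m = 1 <<< x ||| m from rfl, Nat.testBit_or, Nat.one_shiftLeft,
        Nat.testBit_two_pow]
    refine ⟨List.nodup_cons.2 ⟨fun hx => ?_, h1⟩, fun y hy => ?_⟩
    · have := h2 x hx
      rw [hb, decide_eq_true rfl, Bool.true_or] at this
      cases this
    · rcases List.mem_cons.1 hy with rfl | hy
      · exact h'.1
      · have := h2 y hy
        rw [hb, Bool.or_eq_false_iff] at this
        exact this.2

theorem nodup_of_ndB {l : List ℕ} (h : ndB l = true) : l.Nodup := (ndFrom_spec h).1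

/-- Tree of an orbit: each new point is an image of an earlier one. -/
noncomputable def connB (A : Act) (W : List (List ℕ)) (T : List (ℕ × ℕ × ℕ)) : ℕ → Bool :=
  List.rec (motive := fun _ => ℕ → Bool) (fun _ => true)
    (fun e _ r seen => Nat.blt e.2.2 W.length && bit seen e.2.1 &&
      Nat.beq (A.go (W.getD e.2.2 []) e.2.1) e.1 && force (Nat.lor (1 <<< e.1) seen) r) T

/-- The points of a tree. -/
noncomputable def ptsOf (o : ℕ × List (ℕ × ℕ × ℕ)) : List ℕ := o.1 :: o.2.map fun e => e.1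

/-- An orbit by words. -/
noncomputable def chkTree (A : Act) (W : List (List ℕ)) (o : ℕ × List (ℕ × ℕ × ℕ)) : Bool :=
  Act.lettersOk A.n W && connB A W o.2 (1 <<< o.1) && (ptsOf o).all (fun q => Nat.blt q A.N)

theorem conn_spec {A : Act} {W : List (List ℕ)} (Pr : ℕ → Prop) (hstep : ∀ w ∈ W, ∀ x, Pr x → Pr (A.go w x)) :
    ∀ (T : List (ℕ × ℕ × ℕ)) (seen : ℕ), connB A W T seen = true → (∀ x, bit seen x = true → Pr x) →
      ∀ e ∈ T, Pr e.1
  | [], _, _, _ => by simp
  | e :: T, seen, h, hs => by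
    have h' : (Nat.blt e.2.2 W.length && bit seen e.2.1 &&
        Nat.beq (A.go (W.getD e.2.2 []) e.2.1) e.1 && force (Nat.lor (1 <<< e.1) seen) (connB A W T)) = true := h
    rw [force_eq] at h'
    simp only [Bool.and_eq_true] at h'
    obtain ⟨⟨⟨h1, h2⟩, h3⟩, h4⟩ := h'
    have hl : e.2.2 < W.length := Nat.le_of_ble_eq_true h1
    have he : Pr e.1 := by
      rw [← Nat.eq_of_beq_eq_true h3]
      exact hstep _ (by rw [List.getD_eq_getElem _ _ hl]; exact List.getElem_mem _) _ (hs _ h2)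
    intro e' he'
    rcases List.mem_cons.1 he' with rfl | he'
    · exact he
    · refine conn_spec Pr hstep T _ h4 (fun y hy => ?_) e' he'
      rw [bit_eq, show Nat.lor (1 <<< e.1) seen = 1 <<< e.1 ||| seen from rfl, Nat.testBit_or, Nat.one_shiftLeft,
        Nat.testBit_two_pow, Bool.or_eq_true, decide_eq_true_eq] at hy
      rcases hy with rfl | hy
      · exact he
      · exact hs y (by rw [bit_eq]; exact hy)

theorem conn_pts {A : Act} {W : List (List ℕ)} (Pr : ℕ → Prop) (hstep : ∀ w ∈ W, ∀ x, Pr x → Pr (A.go w x))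
    {o : ℕ × List (ℕ × ℕ × ℕ)} (h : chkTree A W o = true) (hr : Pr o.1) : ∀ q ∈ ptsOf o, Pr q := by
  simp only [chkTree, Bool.and_eq_true] at h
  intro q hq
  rcases List.mem_cons.1 hq with rfl | hq
  · exact hr
  · obtain ⟨e, he, rfl⟩ := List.mem_map.1 hq
    refine conn_spec Pr hstep o.2 _ h.1.2 (fun x hx => ?_) e he
    rw [bit_eq, Nat.one_shiftLeft, Nat.testBit_two_pow, decide_eq_true_eq] at hx
    exact hx ▸ hr

theorem tree_lt {A : Act} {W : List (List ℕ)} {o : ℕ × List (ℕ × ℕ × ℕ)} (h : chkTree A W o = true) {q : ℕ}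
    (hq : q ∈ ptsOf o) : q < A.N := by
  simp only [chkTree, Bool.and_eq_true, List.all_eq_true] at h
  exact Nat.le_of_ble_eq_true (h.2 q hq)

theorem tree_letters {A : Act} {W : List (List ℕ)} {o : ℕ × List (ℕ × ℕ × ℕ)} (h : chkTree A W o = true) :
    Act.lettersOk A.n W = true := by
  simp only [chkTree, Bool.and_eq_true] at h
  exact h.1.1

/-- A list as a finite set. -/
def listSet {n : ℕ} (l : List ℕ) : Finset (Fin n) := Finset.univ.filter fun q => (q : ℕ) ∈ l

theorem mem_listSet {n : ℕ} {l : List ℕ} {q : Fin n} : q ∈ listSet l ↔ (q : ℕ) ∈ l := by simp [listSet]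

theorem card_listSet {n : ℕ} {l : List ℕ} (hn : l.Nodup) (hl : ∀ q ∈ l, q < n) :
    (listSet l : Finset (Fin n)).card = l.length := by
  rw [← Finset.card_image_of_injective _ Fin.val_injective, ← List.toFinset_card_of_nodup hn]
  congr 1
  ext x
  simp only [Finset.mem_image, mem_listSet, List.mem_toFinset]
  exact ⟨fun ⟨p, hp, e⟩ => e ▸ hp, fun hx => ⟨⟨x, hl x hx⟩, hx, rfl⟩⟩

/-- A tree with a given number of points. -/
theorem card_tree {A : Act} {W : List (List ℕ)} {o : ℕ × List (ℕ × ℕ × ℕ)} (h : chkTree A W o = true) {k : ℕ}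
    (hk : ((ptsOf o).length == k && ndB (ptsOf o)) = true) :
    (listSet (ptsOf o) : Finset (Fin A.N)).card = k := by
  simp only [Bool.and_eq_true, beq_iff_eq] at hk
  rw [card_listSet (nodup_of_ndB hk.2) fun q hq => tree_lt h hq, hk.1]

end Cfsg.Agent.Spor.SuzRec
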