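import Cfsg.Agent.Lib.Spor.SuzRec.Basic
import Cfsg.Agent.Lib.Spor.SuzRec.Data
import Cfsg.Agent.Lib.Spor.SuzRec.DataMask
import Cfsg.Agent.Lib.Spor.SuzRec.DataOrb
import Cfsg.Agent.Lib.Spor.Cos.Suz.IsSimple
import Cfsg.Agent.Lib.Fus.GTwoFourJ2Data

/-! The finite checks, as Boolean functions. -/

set_option autoImplicit false
set_option maxRecDepth 100000
set_option maxHeartbeats 4000000

open Cfsg.Agent.Spor.Cos

namespace Cfsg.Agent.Spor.SuzRec

/-- A geometry of degree 1365 with the data of its checks. -/
structure Side where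
  /-- the action -/
  A : Act
  /-- the base -/
  root : ℕ
  /-- the points as an orbit -/
  tree : List (ℕ × ℕ × ℕ)
  /-- words fixing the base -/
  stW : List (List ℕ)
  /-- orbits of the stabiliser -/
  o20 : ℕ × List (ℕ × ℕ × ℕ)
  /-- orbits of the stabiliser -/
  o320 : ℕ × List (ℕ × ℕ × ℕ)
  /-- orbits of the stabiliser -/
  o1024 : ℕ × List (ℕ × ℕ × ℕ)
  /-- words to the collinear points -/
  clW : List (List ℕ)
  /-- their far neighbours -/
  nbs : List (List ℕ)
  /-- words to the first points of the orbits of the five-group -/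
  repW : List (List ℕ)
  /-- orbits of the five-group -/
  orbs : List (ℕ × List (ℕ × ℕ × ℕ))
  /-- orbits of the collinear points of their first points -/
  eqs : List (List ℕ)
  /-- the search -/
  cert : STree

/-- The points. -/
noncomputable def hexA : Act := ⟨6, 1365, hexT⟩

/-- The lines. -/
noncomputable def lineA : Act := ⟨6, 1365, lineT⟩

/-- The point side. -/
noncomputable def hexS : Side :=
  ⟨hexA, hexRoot, hexTree, hexStW, hexO20, hexO320, hexO1024, hexClW, hexNbs, hexRepW, hexOrbs, hexEqs, hexCert⟩

/-- The line side. -/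
noncomputable def lineS : Side :=
  ⟨lineA, lineRoot, lineTree, lineStW, lineO20, lineO320, lineO1024, lineClW, lineNbs, lineRepW, lineOrbs, lineEqs, lineCert⟩

/-- The single generators of the point stabiliser. -/
def genW : List (List ℕ) := [[0], [1], [2], [3], [4], [5]]

/-- The fields of a packed number. -/
noncomputable def fieldsOf (E n : ℕ) : List ℕ := (List.range n).map fun i => (E >>> (16 * i)) % 65536

/-- The points collinear to a point of the hexagon. -/
noncomputable def clL (p : ℕ) : List ℕ := force (hexClT.at p) fun E => fieldsOf E 20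

/-- The points of a line. -/
noncomputable def linePts (k : ℕ) : List ℕ := force (linePtT.at k) fun E => fieldsOf E 5

/-- All points as bits. -/
noncomputable def fullMask : ℕ := 2 ^ 1365 - 1

/-- Collinearity along an edge of the tree, and as bits. -/
noncomputable def chkClEdge (e : ℕ × ℕ × ℕ) : Bool :=
  Nat.beq (hexMaskT.at e.1) (maskOf ((clL e.2.1).map fun q => hexA.im q e.2.2))

/-- A tree with a number of points. -/
noncomputable def chkOrb (A : Act) (W : List (List ℕ)) (o : ℕ × List (ℕ × ℕ × ℕ)) (k : ℕ) : Bool :=
  chkTree A W o && ((ptsOf o).length == k) && ndB (ptsOf o)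

/-- The suborbits. -/
noncomputable def chkSub (S : Side) : Bool :=
  chkTree S.A genW (S.root, S.tree) && Nat.beq (maskOf (ptsOf (S.root, S.tree))) fullMask &&
    Nat.blt S.root 1365 && S.A.chkFix S.stW S.root &&
    chkOrb S.A S.stW S.o20 20 && chkOrb S.A S.stW S.o320 320 && chkOrb S.A S.stW S.o1024 1024 &&
    Nat.beq (maskOf (S.root :: (ptsOf S.o20 ++ ptsOf S.o320 ++ ptsOf S.o1024))) fullMask &&
    ndB (S.root :: (ptsOf S.o20 ++ ptsOf S.o320 ++ ptsOf S.o1024))

/-- The far neighbours of the collinear points are as listed. -/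
noncomputable def chkNbs (S : Side) : Bool :=
  Nat.beq S.clW.length 20 && Nat.beq S.nbs.length 20 && Act.lettersOk 6 S.clW &&
    (List.range 20).all fun k => (ptsOf S.o320).map (fun x => S.A.go (S.clW.getD k []) x) == S.nbs.getD k []

/-- Common neighbours beyond: the parameter less the common ones here. -/
noncomputable def cvalB (m q : ℕ) (l : List ℕ) : ℕ :=
  (bif bit m q then 100 else 96) - (l.filter fun x => bit m x).length

/-- The counts at the base. -/
noncomputable def chkCount (S : Side) : Bool :=
  (force (maskOf (ptsOf S.o320)) fun m => (List.range 20).all fun k =>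
      force (S.A.go (S.clW.getD k []) S.root) fun q =>
        !bit m q && Nat.beq (cvalB m q (S.nbs.getD k [])) 48) &&
    Nat.beq (maskOf (S.clW.map fun w => S.A.go w S.root)) (maskOf (ptsOf S.o20)) &&
    ndB (S.clW.map fun w => S.A.go w S.root) &&
    Nat.beq (((List.range 20).map fun j => force (maskOf (S.nbs.getD j [])) fun m =>
      ((List.range 20).map fun k => bif Nat.beq j k then 96
        else cvalB m (S.A.go (S.clW.getD k []) S.root) (S.nbs.getD k [])).sum).sum) 12480

/-- The far point has another count. -/
noncomputable def chkFar : Bool :=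
  Act.lettersOk 6 [farW] && Nat.beq (hexA.go farW hexRoot) hexO1024.1 &&
    force (maskOf (ptsOf hexO320)) fun m =>
      !bit m hexO1024.1 &&
        !Nat.beq (((ptsOf hexO320).map fun x => hexA.go farW x).filter fun x => bit m x).length 48

/-- The two elements of order five, as a list. -/
def pW : List (List ℕ) := [aW, bW]

/-- The orbits of the five-group. -/
noncomputable def chkOrbs (S : Side) : Bool :=
  Act.lettersOk 6 pW && Nat.beq S.orbs.length 57 && (S.orbs.all fun o => chkTree S.A pW o) &&
    Nat.beq (maskOf (S.orbs.flatMap ptsOf)) fullMask &&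
    Nat.beq S.eqs.length 57 && Nat.beq S.repW.length 57 && Act.lettersOk 6 S.repW && (List.range 57).all fun i =>
      Nat.beq (S.A.go (S.repW.getD i []) S.root) (S.orbs.getD i (0, [])).1 && Nat.beq (S.eqs.getD i []).length 20 &&
        (List.range 20).all fun k => force ((S.eqs.getD i []).getD k 0) fun j =>
          Nat.blt j 57 && bit (maskOf (ptsOf (S.orbs.getD j (0, []))))
            (S.A.go (S.repW.getD i []) (S.A.go (S.clW.getD k []) S.root))

/-- An equation cannot hold. -/
noncomputable def badB (e : List ℕ) (i ones zeros : ℕ) : Bool :=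
  force (e.filter fun j => bit ones j).length fun lo => force (e.filter fun j => bit zeros j).length fun z =>
    (bit zeros i || Nat.blt 10 lo || Nat.blt 10 z) && (bit ones i || Nat.blt 3 lo || Nat.blt 17 z)

/-- A search tree covers all solutions. -/
noncomputable def chkSearch (eqs : List (List ℕ)) (sol : Option ℕ) (t : STree) : ℕ → ℕ → Bool :=
  STree.rec (motive := fun _ => ℕ → ℕ → Bool)
    (fun i ones zeros => Nat.blt i eqs.length && badB (eqs.getD i []) i ones zeros)
    (fun ones zeros => Option.rec (motive := fun _ => Bool) false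
      (fun m => Nat.beq ones m && Nat.beq (Nat.lor ones zeros) (2 ^ 57 - 1)) sol)
    (fun v _ _ l r ones zeros => Nat.blt v 57 &&
      force (Nat.lor (1 <<< v) zeros) (fun z => l ones z) && force (Nat.lor (1 <<< v) ones) (fun o => r o zeros))
    t

/-- The invariant set among the points. -/
noncomputable def chkSetR : Bool :=
  ((List.range 57).all fun i => (ptsOf (hexOrbs.getD i (0, []))).all fun q =>
    bif bit solBits i then bit setR q else !bit setR q) &&
    ((List.range 5).all fun s => (List.range 1365).all fun q => bif bit setR q then bit setR (hexA.im q s) else true) &&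
    (List.range 1365).any fun q => bit setR q && !bit setR (hexA.im q 5)

/-- A point, its vertex, and its kind. -/
noncomputable def chkEmb (p : ℕ) : Bool :=
  force (embT.at p) fun v => Nat.blt v 1782 && Nat.beq (kindT.at v) (p + 2) &&
    (List.range 6).all fun s => Nat.beq (embT.at (hexA.im p s)) (Cos.Suz.actA.im v s)

/-- A vertex and its kind. -/
noncomputable def chkKind (v : ℕ) : Bool :=
  force (kindT.at v) fun k => (Nat.beq k 0 && Nat.beq v 0) || (Nat.beq k 1 && Fus.GTwoJ2.oAll.mem v) ||
    (Nat.ble 2 k && Nat.blt k 1367 && Nat.beq (embT.at (k - 2)) v)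

/-- The points of the orbit of 416 have kind one. -/
noncomputable def chkKindN (j : ℕ) : Bool := Nat.beq (kindT.at (Fus.GTwoJ2.oAll.pt j)) 1

/-- A line, its points and its images. -/
noncomputable def chkLine (k : ℕ) : Bool :=
  force (maskOf (linePts k)) fun m => ((linePts k).all fun p => Nat.blt p 1365) &&
    (Nat.beq (k + 1) 1365 || Nat.blt m (maskOf (linePts (k + 1)))) &&
    (List.range 6).all fun s =>
      Nat.beq (maskOf ((linePts k).map fun p => hexA.im p s)) (maskOf (linePts (lineA.im k s)))

/-- The stabiliser of a flag. -/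
noncomputable def chkFlag : Bool :=
  Nat.beq hexRoot 0 && hexA.chkFix flagW 0 && lineA.chkFix flagW lineRoot && chkOrb hexA flagW flagO4 4 &&
    chkOrb hexA flagW flagO16 16 && chkOrb hexA flagW flagO64 64 && chkOrb hexA flagW flagO256 256 &&
    chkOrb hexA flagW flagO1024 1024 &&
    Nat.beq (maskOf (linePts lineRoot)) (maskOf (0 :: ptsOf flagO4)) &&
    Nat.beq (maskOf (0 :: (ptsOf flagO4 ++ ptsOf flagO16 ++ ptsOf flagO64 ++ ptsOf flagO256 ++ ptsOf flagO1024)))
      fullMask &&
    chkTree lineA hexStW (lineRoot, penW) && Nat.beq (ptsOf (lineRoot, penW)).length 5 && ndB (ptsOf (lineRoot, penW)) &&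
    force (maskOf (ptsOf (lineRoot, penW))) fun m =>
      (List.range 1365).all fun k => bit m k || !bit (maskOf (linePts k)) 0

/-- The elements of order five commute. -/
noncomputable def chkFive : Bool :=
  Act.lettersOk 5 pW && (pW.all fun w => chkPow Cos.Suz.actA [0, 1781, 135, 1461, 46, 1] 5 w) &&
    ([0, 1781, 135, 1461, 46, 1].all fun r =>
      Nat.beq (Cos.Suz.actA.go (aW ++ bW) r) (Cos.Suz.actA.go (bW ++ aW) r))

/-- Two points are seen alike from fixed points. -/
noncomputable def samePat (W : List ℕ) (mz mx : ℕ) : Bool :=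
  W.all fun w => force (hexMaskT.at w) fun mw =>
    (bif bit mz w then bit mx w else !bit mx w) &&
      bif Nat.beq (Nat.land mz mw) 0 then Nat.beq (Nat.land mx mw) 0 else !Nat.beq (Nat.land mx mw) 0

/-- The candidates for the image of a point. -/
noncomputable def cands (z a : ℕ) (W : List ℕ) : List ℕ :=
  force (hexMaskT.at z) fun mz => (clL a).filter fun x =>
    (W.all fun w => !Nat.beq x w) && samePat W mz (hexMaskT.at x)

/-- A base with bounds on the orbits. -/
noncomputable def chkSteps (L : List (ℕ × ℕ × ℕ × List ℕ)) : ℕ → Bool :=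
  List.rec (motive := fun _ => ℕ → Bool) (fun m => Nat.beq m fullMask)
    (fun e _ r fixed => Nat.blt e.1 1365 && !bit fixed e.1 && bit fixed e.2.1 && (e.2.2.2.all fun w => bit fixed w) &&
      bit (maskOf (clL e.2.1)) e.1 &&
      Nat.ble (cands e.1 e.2.1 e.2.2.2).length e.2.2.1 && force (Nat.lor (1 <<< e.1) fixed) r) L

/-- The product of the bounds. -/
def stepsProd (L : List (ℕ × ℕ × ℕ × List ℕ)) : ℕ := (L.map fun e => e.2.2.1).prod

/-- The table of bits agrees with the lists. -/
noncomputable def chkMask (p : ℕ) : Bool := Nat.beq (hexMaskT.at p) (maskOf (clL p))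

end Cfsg.Agent.Spor.SuzRec
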