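import Cfsg.Agent.Lib.Spor.SuzRec.CheckDefs

/-! The finite checks of the point side. -/

set_option autoImplicit false
set_option maxRecDepth 100000
set_option maxHeartbeats 4000000
set_option Elab.async false

open Cfsg.Agent.Spor.Cos

namespace Cfsg.Agent.Spor.SuzRec

theorem hexInv_ok : ∀ p < hexA.N, hexA.chkInv p = true :=
  fun p hp => List.all_eq_true.1 (show ((List.range 1365).all fun p => hexA.chkInv p) = true by decide +kernel) p
    (List.mem_range.2 hp)

theorem hexSub_ok : chkSub hexS = true := by decide +kernel

theorem hexNbs_ok : chkNbs hexS = true := by decide +kernel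

theorem hexCount_ok : chkCount hexS = true := by decide +kernel

theorem hexOrbs_ok : chkOrbs hexS = true := by decide +kernel

theorem hexSearch_ok : chkSearch hexEqs (some solBits) hexCert 0 0 = true := by decide +kernel

end Cfsg.Agent.Spor.SuzRec
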