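import Cfsg.Agent.Lib.Spor.SuzRec.CheckDefs

/-! The finite checks of the line side. -/

set_option autoImplicit false
set_option maxRecDepth 100000
set_option maxHeartbeats 4000000
set_option Elab.async false

open Cfsg.Agent.Spor.Cos

namespace Cfsg.Agent.Spor.SuzRec

theorem lineInv_ok : ∀ p < lineA.N, lineA.chkInv p = true :=
  fun p hp => List.all_eq_true.1 (show ((List.range 1365).all fun p => lineA.chkInv p) = true by decide +kernel) p
    (List.mem_range.2 hp)

theorem lineSub_ok : chkSub lineS = true := by decide +kernel

theorem lineNbs_ok : chkNbs lineS = true := by decide +kernel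

theorem lineCount_ok : chkCount lineS = true := by decide +kernel

theorem lineOrbs_ok : chkOrbs lineS = true := by decide +kernel

theorem lineSearch_ok : chkSearch lineEqs none lineCert 0 0 = true := by decide +kernel

theorem line_ok : ∀ k < 1365, chkLine k = true :=
  fun v hv => List.all_eq_true.1 (show ((List.range 1365).all chkLine) = true by decide +kernel) v (List.mem_range.2 hv)

end Cfsg.Agent.Spor.SuzRec
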