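import Cfsg.Agent.Lib.Spor.SuzRec.CheckDefs

/-! The finite checks of the embedding. -/

set_option autoImplicit false
set_option maxRecDepth 100000
set_option maxHeartbeats 4000000
set_option Elab.async false

open Cfsg.Agent.Spor.Cos

namespace Cfsg.Agent.Spor.SuzRec

theorem emb_ok : ∀ v < 1365, chkEmb v = true :=
  fun v hv => List.all_eq_true.1 (show ((List.range 1365).all chkEmb) = true by decide +kernel) v (List.mem_range.2 hv)

theorem kind_ok : ∀ v < 1782, chkKind v = true :=
  fun v hv => List.all_eq_true.1 (show ((List.range 1782).all chkKind) = true by decide +kernel) v (List.mem_range.2 hv)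

theorem kindN_ok : ∀ v < 416, chkKindN v = true :=
  fun v hv => List.all_eq_true.1 (show ((List.range 416).all chkKindN) = true by decide +kernel) v (List.mem_range.2 hv)

theorem setR_ok : chkSetR = true := by decide +kernel

theorem five_ok : chkFive = true := by decide +kernel

theorem flag_ok : chkFlag = true := by decide +kernel

theorem far_ok : chkFar = true := by decide +kernel

end Cfsg.Agent.Spor.SuzRec
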