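import Cfsg.Agent.Lib.Spor.SuzRec.SideFacts

/-! A subgroup of order 184320 of the point stabiliser fixes a point or a line of the hexagon. -/

set_option autoImplicit false
set_option maxRecDepth 100000

open Cfsg.Agent.Spor.Cos Finset

namespace Cfsg.Agent.Spor.SuzRec

instance : Finite H0 := inferInstance

theorem card_H0 : Nat.card H0 = 251596800 := Fus.SuzG2.card_val

variable {S : Side}

/-- The stabiliser of the base. -/
noncomputable def SideOk.St (h : SideOk S) : Subgroup H0 :=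
  (MulAction.stabilizer (Equiv.Perm (Fin S.A.N)) h.o).comap h.H.θ

theorem SideOk.mem_St (h : SideOk S) {y : H0} : y ∈ h.St ↔ h.H.θ y h.o = h.o := Iff.rfl

theorem SideOk.card_St (h : SideOk S) : Nat.card h.St = 184320 := by
  letI : MulAction H0 (Fin S.A.N) := MulAction.compHom (Fin S.A.N) h.H.θ
  have hN := h.hN
  have hh := Nat.card_congr (MulAction.orbitProdStabilizerEquivGroup H0 h.o)
  have horb : MulAction.orbit H0 h.o = Set.univ := Set.eq_univ_of_forall fun p => h.transitive p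
  rw [Nat.card_prod, horb, Nat.card_coe_set_eq, Set.ncard_univ, Nat.card_fin, card_H0,
    show MulAction.stabilizer H0 h.o = h.St from rfl] at hh
  rw [hN] at hh
  omega

/-- The checked facts about the flag. -/
structure FlagParts : Prop where
  base : hexRoot = 0
  fixP : hexA.chkFix flagW 0 = true
  fixL : lineA.chkFix flagW lineRoot = true
  t4 : chkOrb hexA flagW flagO4 4 = true
  t16 : chkOrb hexA flagW flagO16 16 = true
  t64 : chkOrb hexA flagW flagO64 64 = true
  t256 : chkOrb hexA flagW flagO256 256 = true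
  t1024 : chkOrb hexA flagW flagO1024 1024 = true
  pts : maskOf (linePts lineRoot) = maskOf (0 :: ptsOf flagO4)
  cover : maskOf (0 :: (ptsOf flagO4 ++ ptsOf flagO16 ++ ptsOf flagO64 ++ ptsOf flagO256 ++ ptsOf flagO1024)) =
    fullMask
  pen : chkTree lineA hexStW (lineRoot, penW) = true
  pen5 : ((ptsOf (lineRoot, penW)).length == 5 && ndB (ptsOf (lineRoot, penW))) = true
  penC : ∀ k < 1365, k ∈ ptsOf (lineRoot, penW) ∨ 0 ∉ linePts k

theorem flagParts : FlagParts := by
  have h := flag_ok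
  simp only [chkFlag, force_eq, Bool.and_eq_true] at h
  obtain ⟨⟨⟨⟨⟨⟨⟨⟨⟨⟨⟨⟨⟨h0, h1⟩, h2⟩, a1⟩, a2⟩, a3⟩, a4⟩, a5⟩, h3⟩, h4⟩, h5⟩, h6⟩, h7⟩, h8⟩ := h
  refine ⟨Nat.eq_of_beq_eq_true h0, h1, h2, a1, a2, a3, a4, a5, Nat.eq_of_beq_eq_true h3, Nat.eq_of_beq_eq_true h4,
    h5, Bool.and_eq_true_iff.2 ⟨?_, h7⟩, fun k hk => ?_⟩
  · rw [Nat.eq_of_beq_eq_true h6]; rfl
  · have := List.all_eq_true.1 h8 k (List.mem_range.2 hk)
    rw [Bool.or_eq_true, Bool.not_eq_true'] at this
    rcases this with e | e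
    · exact Or.inl (bit_maskOf.1 e)
    · exact Or.inr fun e' => Bool.false_ne_true (e.symm.trans (bit_maskOf.2 e'))

theorem chkOrb_spec {A : Act} {W : List (List ℕ)} {o : ℕ × List (ℕ × ℕ × ℕ)} {k : ℕ} (h : chkOrb A W o k = true) :
    chkTree A W o = true ∧ (listSet (ptsOf o) : Finset (Fin A.N)).card = k := by
  simp only [chkOrb, Bool.and_eq_true] at h
  exact ⟨h.1.1, card_tree h.1.1 (Bool.and_eq_true_iff.2 ⟨h.1.2, h.2⟩)⟩

/-- The points of a line. -/
noncomputable def linePtSet (L : Fin lineA.N) : Finset (Fin hexA.N) := listSet (linePts L)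

theorem linePtSet_theta (y : H0) (L : Fin lineA.N) :
    linePtSet (lineH.θ y L) = (linePtSet L).image (hexH.θ y) := by
  obtain ⟨w, hw, rfl⟩ := exists_word y
  ext p
  rw [linePtSet, linePtSet, mem_listSet, lineH.spec w hw, maskOf_eq.1 (line_go hw L.2), List.mem_map, mem_image]
  constructor
  · rintro ⟨q, hq, e⟩
    exact ⟨⟨q, linePts_lt L.2 q hq⟩, mem_listSet.2 hq, Fin.ext ((hexH.spec w hw _).trans e)⟩
  · rintro ⟨q, hq, rfl⟩
    exact ⟨q, mem_listSet.1 hq, (hexH.spec w hw q).symm⟩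

theorem linePtSet_injective : Function.Injective linePtSet := fun L M e => Fin.ext <|
  linePts_injective L.2 M.2 (maskOf_eq.2 fun q => by
    constructor
    · intro hq
      have : (⟨q, linePts_lt L.2 q hq⟩ : Fin hexA.N) ∈ linePtSet M := e ▸ mem_listSet.2 hq
      exact mem_listSet.1 this
    · intro hq
      have : (⟨q, linePts_lt M.2 q hq⟩ : Fin hexA.N) ∈ linePtSet L := e ▸ mem_listSet.2 hq
      exact mem_listSet.1 this)

/-- The base point. -/
noncomputable def hexO : Fin hexA.N := hexOk.o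

/-- The base line. -/
noncomputable def lineO : Fin lineA.N := lineOk.o

/-- The stabiliser of the flag. -/
noncomputable def B0 : Subgroup H0 := hexOk.St ⊓ lineOk.St

theorem flagW_mem {w : List ℕ} (hw : w ∈ flagW) : (∀ s ∈ w, s < 6) ∧ ev gH w ∈ B0 := by
  have hl : ∀ s ∈ w, s < 6 := Act.lt_of_lettersOk (n := 6) (tree_letters (chkOrb_spec flagParts.t4).1) hw
  refine ⟨hl, Fin.ext ((hexH.spec w hl _).trans ?_), Fin.ext ((lineH.spec w hl _).trans ?_)⟩
  · show hexA.go w hexRoot = hexRoot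
    rw [flagParts.base]
    exact Nat.eq_of_beq_eq_true (List.all_eq_true.1 flagParts.fixP w hw)
  · exact Nat.eq_of_beq_eq_true (List.all_eq_true.1 flagParts.fixL w hw)

theorem card_B0 : Nat.card B0 = 36864 := by
  letI : MulAction H0 (Fin lineA.N) := MulAction.compHom (Fin lineA.N) lineH.θ
  set P := hexOk.St
  have hh := Nat.card_congr (MulAction.orbitProdStabilizerEquivGroup P lineO)
  have hst : Nat.card (MulAction.stabilizer P lineO) = Nat.card B0 := Nat.card_congr
    { toFun := fun g => ⟨g.1.1, g.1.2, g.2⟩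
      invFun := fun g => ⟨⟨g.1, g.2.1⟩, g.2.2⟩
      left_inv := fun g => rfl
      right_inv := fun g => rfl }
  have horb : MulAction.orbit P lineO = (listSet (ptsOf (lineRoot, penW)) : Finset (Fin lineA.N)) := by
    ext L
    rw [coe_filter_univ_mem L]
    constructor
    · rintro ⟨⟨y, hy⟩, rfl⟩
      show ((lineH.θ y lineO : Fin lineA.N) : ℕ) ∈ _
      rcases flagParts.penC _ (lineH.θ y lineO).2 with e | e
      · exact e
      · refine absurd ?_ e
        have h0 : (⟨0, by decide⟩ : Fin hexA.N) ∈ linePtSet (lineH.θ y lineO) := by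
          rw [linePtSet_theta, mem_image]
          refine ⟨hexO, mem_listSet.2 ?_, (hexOk.mem_St.1 hy).trans (Fin.ext flagParts.base)⟩
          show hexRoot ∈ linePts lineRoot
          rw [maskOf_eq.1 flagParts.pts, flagParts.base]
          exact List.mem_cons_self ..
        exact mem_listSet.1 h0
    · intro hL
      refine lineOk.tree_prop (o := (lineRoot, penW)) flagParts.pen
        (fun M => M ∈ MulAction.orbit P lineO) ?_ lineOk.root_lt ⟨1, one_smul _ _⟩ L hL
      rintro w hw M ⟨⟨y, hy⟩, rfl⟩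
      exact ⟨⟨ev gH w * y, mul_mem (hexOk.stW_fix hw).2 hy⟩, by
        show lineH.θ (ev gH w * y) lineO = _; rw [map_mul]; rfl⟩
  rw [Nat.card_prod, horb, hst, Nat.card_coe_set_eq, Set.ncard_coe_finset, hexOk.card_St,
    card_tree flagParts.pen flagParts.pen5] at hh
  omega
where
  coe_filter_univ_mem (L : Fin lineA.N) :
      L ∈ ((listSet (ptsOf (lineRoot, penW)) : Finset (Fin lineA.N)) : Set (Fin lineA.N)) ↔
        (L : ℕ) ∈ ptsOf (lineRoot, penW) := Finset.mem_coe.trans mem_listSet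

/-- The classes of the flag. -/
noncomputable def flagClasses : List (ℕ × List (ℕ × ℕ × ℕ)) := [flagO4, flagO16, flagO64, flagO256, flagO1024]

/-- The sizes of the classes. -/
def flagSizes : Fin 5 → ℕ := ![4, 16, 64, 256, 1024]

/-- A class as a set of points. -/
noncomputable def flagCls (i : Fin 5) : Finset (Fin hexA.N) := listSet (ptsOf (flagClasses.getD i (0, [])))

theorem flagCls_spec (i : Fin 5) :
    chkTree hexA flagW (flagClasses.getD i (0, [])) = true ∧ #(flagCls i) = flagSizes i := by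
  obtain ⟨-, -, -, t4, t16, t64, t256, t1024, -⟩ := flagParts
  fin_cases i
  exacts [chkOrb_spec t4, chkOrb_spec t16, chkOrb_spec t64, chkOrb_spec t256, chkOrb_spec t1024]

theorem flagCls_cover (q : Fin hexA.N) : q = hexO ∨ ∃ i, q ∈ flagCls i := by
  have hq : (q : ℕ) ∈
      0 :: (ptsOf flagO4 ++ ptsOf flagO16 ++ ptsOf flagO64 ++ ptsOf flagO256 ++ ptsOf flagO1024) := by
    rw [← bit_maskOf, flagParts.cover, fullMask_bit]; exact q.2
  simp only [List.mem_cons, List.mem_append] at hq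
  rcases hq with e | ((((e | e) | e) | e) | e)
  · exact Or.inl (Fin.ext (e.trans flagParts.base.symm))
  exacts [Or.inr ⟨0, mem_listSet.2 e⟩, Or.inr ⟨1, mem_listSet.2 e⟩, Or.inr ⟨2, mem_listSet.2 e⟩,
    Or.inr ⟨3, mem_listSet.2 e⟩, Or.inr ⟨4, mem_listSet.2 e⟩]

theorem flag_disjoint {i j : Fin 5} (hij : i ≠ j) : Disjoint (flagCls i) (flagCls j) := by
  classical
  have hsub : (univ : Finset (Fin hexA.N)).erase hexO ⊆ univ.biUnion flagCls := fun q hq => by
    rcases flagCls_cover q with e | ⟨i, e⟩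
    · exact absurd e (ne_of_mem_erase hq)
    · exact mem_biUnion.2 ⟨i, mem_univ _, e⟩
  have h1 := card_le_card hsub
  rw [card_erase_of_mem (mem_univ _), card_univ, Fintype.card_fin] at h1
  rw [disjoint_left]
  intro q hqi hqj
  have h2 : univ.biUnion flagCls ⊆ (univ.biUnion fun k => if k = i then (flagCls i).erase q else flagCls k) := by
    intro x hx
    obtain ⟨k, -, hk⟩ := mem_biUnion.1 hx
    rw [mem_biUnion]
    by_cases hxq : x = q
    · exact ⟨j, mem_univ _, by rw [if_neg (Ne.symm hij), hxq]; exact hqj⟩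
    · refine ⟨k, mem_univ _, ?_⟩
      split_ifs with e
      · exact mem_erase.2 ⟨hxq, e ▸ hk⟩
      · exact hk
  have h3 := (card_le_card h2).trans card_biUnion_le
  have h4 : ∑ k, #(if k = i then (flagCls i).erase q else flagCls k) < ∑ k, flagSizes k := by
    refine sum_lt_sum (fun k _ => ?_) ⟨i, mem_univ _, ?_⟩
    · split_ifs with e
      · subst e; exact (card_le_card (erase_subset _ _)).trans (flagCls_spec k).2.le
      · exact (flagCls_spec k).2.le
    · rw [if_pos rfl, card_erase_of_mem hqi]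
      have := (flagCls_spec i).2
      have : 0 < flagSizes i := this ▸ card_pos.2 ⟨q, hqi⟩
      omega
  have : hexA.N = 1365 := rfl
  rw [show ∑ k, flagSizes k = 1364 by decide] at h4
  omega

theorem sums_dvd : ∀ s : Finset (Fin 5), (∑ i ∈ s, flagSizes i) ∣ 36864 → #s ≤ 1 := by decide +kernel

theorem B0_base {y : H0} (hy : y ∈ B0) : hexH.θ y hexO = hexO := hy.1

/-- The orbits of the flag stabiliser are the classes. -/
theorem B0_orbit {i : Fin 5} {x : Fin hexA.N} (hx : x ∈ flagCls i) :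
    ({q : Fin hexA.N | ∃ y ∈ B0, hexH.θ y x = q} : Set (Fin hexA.N)).ncard = flagSizes i ∧
      ∀ y ∈ B0, hexH.θ y x ∈ flagCls i := by
  classical
  letI : MulAction H0 (Fin hexA.N) := MulAction.compHom (Fin hexA.N) hexH.θ
  set O : Finset (Fin hexA.N) := univ.filter fun q => ∃ y ∈ B0, hexH.θ y x = q with hO
  have hOmem : ∀ q, q ∈ O ↔ ∃ y ∈ B0, hexH.θ y x = q := fun q => by simp [hO]
  have hne : hexO ∉ flagCls i := by
    intro h
    have hsub : (univ : Finset (Fin hexA.N)) ⊆ univ.biUnion flagCls := fun q _ => by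
      rcases flagCls_cover q with rfl | ⟨j, e⟩
      · exact mem_biUnion.2 ⟨i, mem_univ _, h⟩
      · exact mem_biUnion.2 ⟨j, mem_univ _, e⟩
    have h1 := (card_le_card hsub).trans card_biUnion_le
    rw [card_univ, Fintype.card_fin, sum_congr rfl fun k _ => (flagCls_spec k).2,
      show ∑ k, flagSizes k = 1364 by decide, show hexA.N = 1365 from rfl] at h1
    omega
  have hoO : hexO ∉ O := fun h => by
    obtain ⟨y, hy, e⟩ := (hOmem _).1 h
    exact hne ((hexH.θ y).injective (e.trans (B0_base hy).symm) ▸ hx)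
  have hcls : ∀ j q, q ∈ flagCls j → q ∈ O → flagCls j ⊆ O := by
    intro j q hq hqO p hp
    have hr : (flagClasses.getD j (0, [])).1 < hexA.N := tree_lt (flagCls_spec j).1 (List.mem_cons_self ..)
    have key : ∀ t, t ∈ flagCls j → (t ∈ O ↔ (⟨_, hr⟩ : Fin hexA.N) ∈ O) := fun t ht =>
      hexOk.tree_prop (flagCls_spec j).1 (fun t => t ∈ O ↔ (⟨_, hr⟩ : Fin hexA.N) ∈ O) (fun w hw t ht => by
        refine Iff.trans ⟨fun h => ?_, fun h => ?_⟩ ht
        · obtain ⟨y, hy, e⟩ := (hOmem _).1 h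
          refine (hOmem _).2 ⟨(ev gH w)⁻¹ * y, mul_mem (inv_mem (flagW_mem hw).2) hy, ?_⟩
          rw [map_mul, map_inv]
          exact (congrArg _ e).trans ((hexH.θ (ev gH w)).symm_apply_apply t)
        · obtain ⟨y, hy, e⟩ := (hOmem _).1 h
          exact (hOmem _).2 ⟨ev gH w * y, mul_mem (flagW_mem hw).2 hy, by rw [map_mul, ← e]; rfl⟩)
        hr Iff.rfl t (mem_listSet.1 ht)
    exact (key p hp).2 ((key q hq).1 hqO)
  let s : Finset (Fin 5) := univ.filter fun j => flagCls j ⊆ O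
  have hOs : O = s.biUnion flagCls := by
    refine Subset.antisymm (fun q hq => ?_) (fun q hq => ?_)
    · rcases flagCls_cover q with rfl | ⟨j, e⟩
      · exact absurd hq hoO
      · exact mem_biUnion.2 ⟨j, mem_filter.2 ⟨mem_univ _, hcls j q e hq⟩, e⟩
    · obtain ⟨j, hj, e⟩ := mem_biUnion.1 hq
      exact (mem_filter.1 hj).2 e
  have hcard : #O = ∑ j ∈ s, flagSizes j := by
    rw [hOs, card_biUnion fun a _ b _ hab => flag_disjoint hab]
    exact sum_congr rfl fun k _ => (flagCls_spec k).2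
  have hB := Nat.card_congr (MulAction.orbitProdStabilizerEquivGroup B0 x)
  rw [Nat.card_prod, card_B0, Nat.card_coe_set_eq] at hB
  have hor : (MulAction.orbit B0 x).ncard = #O := by
    rw [← Set.ncard_coe_finset]
    congr 1
    ext q
    rw [mem_coe, hOmem]
    exact ⟨fun ⟨⟨y, hy⟩, e⟩ => ⟨y, hy, e⟩, fun ⟨y, hy, e⟩ => ⟨⟨y, hy⟩, e⟩⟩
  have h1 := sums_dvd s (hcard ▸ hor ▸ ⟨_, hB.symm⟩)
  have hi : i ∈ s := mem_filter.2 ⟨mem_univ _, hcls i x hx ((hOmem x).2 ⟨1, one_mem _, by rw [map_one]; rfl⟩)⟩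
  have hs : s = {i} := eq_singleton_iff_unique_mem.2 ⟨hi, fun j hj => card_le_one.1 h1 j hj i hi⟩
  have e2 : ({q : Fin hexA.N | ∃ y ∈ B0, hexH.θ y x = q} : Set (Fin hexA.N)) = O := by ext q; simp [hO]
  refine ⟨by rw [e2, Set.ncard_coe_finset, hcard, hs, sum_singleton], fun y hy => ?_⟩
  have h2 := (hOmem (hexH.θ y x)).2 ⟨y, hy, rfl⟩
  rwa [hOs, hs, singleton_biUnion] at h2

/-- A two-subgroup of full order in the flag stabiliser has the same orbits. -/
theorem two_orbit {P : Subgroup H0} (hP : Nat.card P = 4096) (hPB : P ≤ B0) {i : Fin 5} {x : Fin hexA.N}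
    (hx : x ∈ flagCls i) {O : Finset (Fin hexA.N)} (hxO : x ∈ O) (hO : ∀ y ∈ P, ∀ q ∈ O, hexH.θ y q ∈ O) :
    flagSizes i ≤ #(O ∩ flagCls i) := by
  classical
  letI : MulAction H0 (Fin hexA.N) := MulAction.compHom (Fin hexA.N) hexH.θ
  have hB := Nat.card_congr (MulAction.orbitProdStabilizerEquivGroup B0 x)
  have hQ := Nat.card_congr (MulAction.orbitProdStabilizerEquivGroup P x)
  rw [Nat.card_prod, Nat.card_coe_set_eq] at hB hQ
  rw [card_B0] at hB
  rw [hP] at hQ
  have hBO : MulAction.orbit B0 x = {q : Fin hexA.N | ∃ y ∈ B0, hexH.θ y x = q} := by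
    ext q
    exact ⟨fun ⟨⟨y, hy⟩, e⟩ => ⟨y, hy, e⟩, fun ⟨y, hy, e⟩ => ⟨⟨y, hy⟩, e⟩⟩
  rw [hBO, (B0_orbit hx).1] at hB
  set R := MulAction.stabilizer P x
  have h2 : Nat.card R ∣ Nat.card (MulAction.stabilizer B0 x) := by
    refine Subgroup.card_dvd_of_injective
      ({ toFun := fun g => ⟨⟨g.1.1, hPB g.1.2⟩, g.2⟩, map_one' := rfl, map_mul' := fun _ _ => rfl } :
        R →* MulAction.stabilizer B0 x) fun a b e => ?_
    exact Subtype.ext (Subtype.ext (congrArg (fun z => z.1.1) e))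
  have hdvd : flagSizes i * Nat.card R ∣ 36864 := by rw [← hB]; exact mul_dvd_mul_left _ h2
  have hRdvd : Nat.card R ∣ 4096 := ⟨(MulAction.orbit P x).ncard, by rw [← hQ, mul_comm]⟩
  have hle : flagSizes i * Nat.card R ≤ 4096 := by
    obtain ⟨k, -, hk⟩ := (Nat.dvd_prime_pow Nat.prime_two).1 (show Nat.card R ∣ 2 ^ 12 from hRdvd)
    obtain ⟨j, hj⟩ : ∃ j, flagSizes i = 2 ^ j := by
      fin_cases i
      exacts [⟨2, rfl⟩, ⟨4, rfl⟩, ⟨6, rfl⟩, ⟨8, rfl⟩, ⟨10, rfl⟩]
    rw [hj, hk, ← pow_add] at hdvd ⊢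
    have h36 : 2 ^ (j + k) ∣ 2 ^ 12 * 9 := by simpa using hdvd
    have := Nat.le_of_dvd (by norm_num)
      ((Nat.Coprime.pow_left (j + k) (by norm_num : Nat.Coprime 2 9)).dvd_of_dvd_mul_right h36)
    norm_num at this
    exact this
  have horb : flagSizes i ≤ (MulAction.orbit P x).ncard :=
    Nat.le_of_mul_le_mul_right (hQ.symm ▸ hle) Nat.card_pos
  refine horb.trans ?_
  rw [← Set.ncard_coe_finset]
  refine Set.ncard_le_ncard ?_
  rintro _ ⟨⟨y, hy⟩, rfl⟩
  exact mem_inter.2 ⟨hO y hy x hxO, (B0_orbit hx).2 y (hPB hy)⟩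

theorem card_linePts : #(linePtSet lineO) = 5 := by
  have e : linePtSet lineO = insert hexO (flagCls 0) := by
    ext q
    rw [linePtSet, mem_listSet]
    show (q : ℕ) ∈ linePts lineRoot ↔ _
    rw [maskOf_eq.1 flagParts.pts, List.mem_cons, mem_insert, flagCls, mem_listSet]
    exact or_congr_left ⟨fun e => Fin.ext (e.trans flagParts.base.symm),
      fun e => (congrArg Fin.val e).trans flagParts.base⟩
  rw [e, card_insert_of_notMem, (flagCls_spec 0).2]; · rfl
  intro h
  have := (B0_orbit h).1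
  have h1 : ({q : Fin hexA.N | ∃ y ∈ B0, hexH.θ y hexO = q} : Set (Fin hexA.N)) ⊆ {hexO} := by
    rintro q ⟨w, hw, rfl⟩; exact B0_base hw
  have h2 := Set.ncard_le_ncard h1
  rw [this, Set.ncard_singleton] at h2
  simp [flagSizes] at h2

/-- A subgroup of order 184320 is conjugate to the stabiliser of a point or of a line. -/
theorem exists_conj (T : Subgroup H0) (hT : Nat.card T = 184320) :
    ∃ g : H0, (∀ y, y ∈ T ↔ g * y * g⁻¹ ∈ hexOk.St) ∨ ∀ y, y ∈ T ↔ g * y * g⁻¹ ∈ lineOk.St := by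
  classical
  have : Fact (Nat.Prime 2) := ⟨Nat.prime_two⟩
  obtain ⟨P0, hP0⟩ := Sylow.exists_subgroup_card_pow_prime 2 (G := B0) (n := 12) (by rw [card_B0]; norm_num)
  obtain ⟨Q, hQ⟩ := Sylow.exists_subgroup_card_pow_prime 2 (G := T) (n := 12) (by rw [hT]; norm_num)
  have hfac : (Nat.card H0).factorization 2 = 12 := by
    rw [card_H0, show 251596800 = 2 ^ 12 * 61425 by norm_num,
      Nat.factorization_mul (by norm_num) (by norm_num), Finsupp.add_apply, Nat.Prime.factorization_pow Nat.prime_two,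
      Nat.factorization_eq_zero_of_not_dvd (show ¬ 2 ∣ 61425 by norm_num)]
    simp
  set P : Subgroup H0 := P0.map B0.subtype
  have hP : Nat.card P = 4096 := by
    rw [← Nat.card_congr (Subgroup.equivMapOfInjective P0 B0.subtype B0.subtype_injective).toEquiv, hP0]
    norm_num
  have hQ' : Nat.card (Q.map T.subtype) = 4096 := by
    rw [← Nat.card_congr (Subgroup.equivMapOfInjective Q T.subtype T.subtype_injective).toEquiv, hQ]
    norm_num
  have hPB : P ≤ B0 := Subgroup.map_subtype_le P0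
  let P1 : Sylow 2 H0 := Sylow.ofCard P (by rw [hP, hfac]; norm_num)
  let Q1 : Sylow 2 H0 := Sylow.ofCard (Q.map T.subtype) (by rw [hQ', hfac]; norm_num)
  obtain ⟨g, hg⟩ := MulAction.exists_smul_eq H0 Q1 P1
  refine ⟨g, ?_⟩
  set T' : Subgroup H0 := T.map (MulAut.conj g).toMonoidHom
  have hmem : ∀ z, z ∈ T ↔ g * z * g⁻¹ ∈ T' := fun z =>
    ⟨fun hz => ⟨z, hz, rfl⟩, fun ⟨x, hx, e⟩ => by
      have e' : g * x * g⁻¹ = g * z * g⁻¹ := e
      rwa [mul_left_cancel (mul_right_cancel e')] at hx⟩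
  suffices h : T' = hexOk.St ∨ T' = lineOk.St by
    rcases h with h | h
    · exact Or.inl (h ▸ hmem)
    · exact Or.inr (h ▸ hmem)
  have hcT : Nat.card T' = 184320 := by
    rw [← Nat.card_congr (Subgroup.equivMapOfInjective T _ (MulAut.conj g).injective).toEquiv, hT]
  have hPT : P ≤ T' := by
    intro u hu
    have h1 : u ∈ (g • Q1 : Sylow 2 H0) := hg.symm ▸ hu
    have h2 : u ∈ (Q.map T.subtype).map (MulAut.conj g).toMonoidHom := h1
    obtain ⟨x, ⟨q, -, rfl⟩, rfl⟩ := h2
    exact ⟨q, q.2, rfl⟩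
  letI : MulAction H0 (Fin hexA.N) := MulAction.compHom (Fin hexA.N) hexH.θ
  let O : Finset (Fin hexA.N) := univ.filter fun q => ∃ y ∈ T', hexH.θ y hexO = q
  have hOmem : ∀ q, q ∈ O ↔ ∃ y ∈ T', hexH.θ y hexO = q := fun q => by simp [O]
  have hOinv : ∀ y ∈ T', ∀ q ∈ O, hexH.θ y q ∈ O := fun y hy q hq => by
    obtain ⟨z, hz, rfl⟩ := (hOmem q).1 hq
    exact (hOmem _).2 ⟨y * z, mul_mem hy hz, by rw [map_mul]; rfl⟩
  have h45 : #O ∣ 45 := by
    have hc := Nat.card_congr (MulAction.orbitProdStabilizerEquivGroup T' hexO)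
    have hPs : P.subgroupOf T' ≤ MulAction.stabilizer T' hexO := fun u hu => B0_base (hPB hu)
    have h := Subgroup.card_dvd_of_le hPs
    rw [Nat.card_congr (Subgroup.subgroupOfEquivOfLe hPT).toEquiv, hP] at h
    obtain ⟨c, hc'⟩ := h
    rw [Nat.card_prod, hcT, hc', Nat.card_coe_set_eq, show MulAction.orbit T' hexO = (O : Set _) by
      ext q
      rw [mem_coe, hOmem]
      exact ⟨fun ⟨⟨y, hy⟩, e⟩ => ⟨y, hy, e⟩, fun ⟨y, hy, e⟩ => ⟨⟨y, hy⟩, e⟩⟩, Set.ncard_coe_finset] at hc
    exact ⟨c, by nlinarith⟩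
  have hsmall : ∀ i q, q ∈ flagCls i → q ∈ O → flagCls i ⊆ O ∧ flagSizes i ≤ 45 := by
    intro i q hq hqO
    have h := two_orbit hP hPB hq hqO fun y hy => hOinv y (hPT hy)
    have e : O ∩ flagCls i = flagCls i :=
      eq_of_subset_of_card_le inter_subset_right (by rw [(flagCls_spec i).2]; exact h)
    exact ⟨e ▸ inter_subset_left,
      h.trans ((card_le_card inter_subset_left).trans (Nat.le_of_dvd (by norm_num) h45))⟩
  have hoO : hexO ∈ O := (hOmem _).2 ⟨1, one_mem _, by rw [map_one]; rfl⟩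
  let s : Finset (Fin 5) := univ.filter fun i => ∃ q ∈ flagCls i, q ∈ O
  have hOs : O = insert hexO (s.biUnion flagCls) := by
    refine Subset.antisymm (fun q hq => ?_) (insert_subset hoO fun q hq => ?_)
    · rcases flagCls_cover q with rfl | ⟨i, e⟩
      · exact mem_insert_self _ _
      · exact mem_insert_of_mem (mem_biUnion.2 ⟨i, mem_filter.2 ⟨mem_univ _, q, e, hq⟩, e⟩)
    · obtain ⟨i, hi, e⟩ := mem_biUnion.1 hq
      obtain ⟨r, hr, hrO⟩ := (mem_filter.1 hi).2
      exact (hsmall i r hr hrO).1 e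
  have hnot : hexO ∉ s.biUnion flagCls := fun h => by
    obtain ⟨i, -, e⟩ := mem_biUnion.1 h
    have h1 : ({q : Fin hexA.N | ∃ y ∈ B0, hexH.θ y hexO = q} : Set (Fin hexA.N)) ⊆ {hexO} := by
      rintro q ⟨w, hw, rfl⟩; exact B0_base hw
    have h2 := Set.ncard_le_ncard h1
    rw [(B0_orbit e).1, Set.ncard_singleton] at h2
    fin_cases i <;> simp [flagSizes] at h2
  have hcard : #O = 1 + ∑ i ∈ s, flagSizes i := by
    rw [hOs, card_insert_of_notMem hnot, card_biUnion fun a _ b _ hab => flag_disjoint hab,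
      sum_congr rfl fun k _ => (flagCls_spec k).2, add_comm]
  have hs : s = ∅ ∨ s = {0} := by
    have hall : ∀ i ∈ s, flagSizes i ≤ 45 := fun i hi => by
      obtain ⟨r, hr, hrO⟩ := (mem_filter.1 hi).2
      exact (hsmall i r hr hrO).2
    have key : ∀ t : Finset (Fin 5), (∀ i ∈ t, flagSizes i ≤ 45) → (1 + ∑ i ∈ t, flagSizes i) ∣ 45 →
        t = ∅ ∨ t = {0} := by decide +kernel
    exact key s hall (hcard ▸ h45)
  rcases hs with hs | hs
  · refine Or.inl (Subgroup.eq_of_le_of_card_ge (fun y hy => hexOk.mem_St.2 ?_) (by rw [hexOk.card_St, hcT]))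
    have h := hOinv y hy _ hoO
    rw [hOs, hs, biUnion_empty, mem_insert] at h
    rcases h with h | h
    · exact h
    · simp at h
  · refine Or.inr (Subgroup.eq_of_le_of_card_ge (fun y hy => lineOk.mem_St.2 ?_) (by rw [lineOk.card_St, hcT]))
    have hline : linePtSet lineO = O := by
      refine eq_of_subset_of_card_le (fun q hq => ?_) (by rw [card_linePts, hcard, hs]; rfl)
      rw [linePtSet, mem_listSet] at hq
      rw [hOs, hs, singleton_biUnion, mem_insert, flagCls, mem_listSet]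
      have h := (maskOf_eq.1 flagParts.pts q).1 hq
      rcases List.mem_cons.1 h with e | e
      · exact Or.inl (Fin.ext (e.trans flagParts.base.symm))
      · exact Or.inr e
    refine linePtSet_injective ?_
    show linePtSet (lineH.θ y lineO) = linePtSet lineO
    rw [linePtSet_theta, hline]
    exact eq_of_subset_of_card_le (fun q hq => by obtain ⟨r, hr, rfl⟩ := mem_image.1 hq; exact hOinv y hy r hr)
      (by rw [card_image_of_injective _ (hexH.θ y).injective])

end Cfsg.Agent.Spor.SuzRec
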