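import Cfsg.Agent.Lib.Spor.SuzRec.SideFacts

/-!
The hexagon in a graph of valency 416 on 1782 vertices: the parameters, and the neighbours in the far part of a
vertex adjacent to the base vertex form a set meeting every twenty collinear points in ten or three points.
-/

set_option autoImplicit false
set_option maxRecDepth 100000
set_option maxHeartbeats 1000000

open Cfsg.Agent.Spor.Cos Finset

namespace Cfsg.Agent.Spor.SuzRec

variable {Ω : Type*} [Fintype Ω] [DecidableEq Ω] {Γ : SimpleGraph Ω} [DecidableRel Γ.Adj] {a : Ω}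
  {r : H0 →* Equiv.Perm Ω} {l m : ℕ}

/-- A graph with the point stabiliser acting around a vertex. -/
structure Around (Γ : SimpleGraph Ω) [DecidableRel Γ.Adj] (a : Ω) (r : H0 →* Equiv.Perm Ω) (l m : ℕ) : Prop where
  inv : ∀ y x z, Γ.Adj (r y x) (r y z) ↔ Γ.Adj x z
  fix : ∀ y, r y a = a
  deg : ∀ x, #(univ.filter fun z => Γ.Adj x z) = 416
  adj : ∀ x y, Γ.Adj x y → #(univ.filter fun z => Γ.Adj x z ∧ Γ.Adj y z) = l
  nadj : ∀ x y, x ≠ y → ¬ Γ.Adj x y → #(univ.filter fun z => Γ.Adj x z ∧ Γ.Adj y z) = m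
  count : 416 + 416 * l + 1365 * m = 173056

/-- The far vertices labelled by a side of the hexagon. -/
structure Far {S : Side} (h : SideOk S) (Γ : SimpleGraph Ω) (a : Ω) (r : H0 →* Equiv.Perm Ω)
    (φ : Fin S.A.N → Ω) : Prop where
  inj : Function.Injective φ
  far : ∀ x, (x ≠ a ∧ ¬ Γ.Adj a x) ↔ ∃ p, φ p = x
  equiv : ∀ y p, φ (h.H.θ y p) = r y (φ p)

theorem perm_smul_inv (y : H0) (x : Ω) : r y (r y⁻¹ x) = x := by
  rw [map_inv]; exact (r y).apply_symm_apply x

theorem perm_inv_smul (y : H0) (x : Ω) : r y⁻¹ (r y x) = x := by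
  rw [map_inv]; exact (r y).symm_apply_apply x

variable {S : Side} {h : SideOk S} {φ : Fin S.A.N → Ω}

theorem Far.not_adj (hF : Far h Γ a r φ) (p : Fin S.A.N) : φ p ≠ a ∧ ¬ Γ.Adj a (φ p) := (hF.far _).2 ⟨p, rfl⟩

/-- The far neighbours of the base and the parameters. -/
theorem Far.params (hA : Around Γ a r l m) (hF : Far h Γ a r φ) :
    l = 100 ∧ m = 96 ∧ ∀ q, Γ.Adj (φ h.o) (φ q) ↔ (q : ℕ) ∈ ptsOf S.o320 := by
  classical
  set T : Finset (Fin S.A.N) := univ.filter fun q => Γ.Adj (φ h.o) (φ q)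
  have hTc : #T + m = 416 := by
    have hsplit : (univ.filter fun z => Γ.Adj (φ h.o) z) =
        (univ.filter fun z => Γ.Adj (φ h.o) z ∧ Γ.Adj a z) ∪ T.image φ := by
      ext z
      simp only [T, mem_union, mem_filter, mem_univ, true_and, mem_image]
      constructor
      · intro hz
        by_cases hza : Γ.Adj a z
        · exact Or.inl ⟨hz, hza⟩
        · obtain ⟨q, rfl⟩ := (hF.far z).1 ⟨fun e => (hF.not_adj h.o).2 ((e ▸ hz : Γ.Adj (φ h.o) a)).symm, hza⟩
          exact Or.inr ⟨q, hz, rfl⟩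
      · rintro (⟨hz, -⟩ | ⟨q, hq, rfl⟩)
        · exact hz
        · exact hq
    have h1 := hA.deg (φ h.o)
    rw [hsplit, card_union_of_disjoint, card_image_of_injective _ hF.inj,
      hA.nadj _ _ (hF.not_adj h.o).1 (fun e => (hF.not_adj h.o).2 e.symm)] at h1
    · omega
    · rw [disjoint_left]
      intro z hz hz'
      obtain ⟨q, -, rfl⟩ := mem_image.1 hz'
      exact (hF.not_adj q).2 (mem_filter.1 hz).2.2
  have hinv : ∀ w ∈ S.stW, ∀ p, p ∈ T ↔ h.H.θ (ev gH w) p ∈ T := by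
    intro w hw p
    simp only [T, mem_filter, mem_univ, true_and]
    conv_rhs => rw [← (h.stW_fix hw).2, hF.equiv, hF.equiv]
    exact (hA.inv _ _ _).symm
  obtain ⟨b1, b2, b3, hT⟩ := h.invariant_set T hinv (by simp [T])
  obtain ⟨-, -, -, c1, c2, c3, -⟩ := h.suborbits
  have hcnt := hA.count
  have hm : m ∈ [0, 32, 64, 96] := by
    have : m ≤ 126 := by omega
    interval_cases m <;> first | decide | omega
  -- the sizes of the unions
  have hd : ∀ {A B : Finset (Fin S.A.N)} {i j : ℕ}, #A = i → #B = j →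
      #(A ∪ B) ≤ i + j ∧ i ≤ #(A ∪ B) ∧ j ≤ #(A ∪ B) := fun hA' hB' =>
    ⟨hA' ▸ hB' ▸ card_union_le _ _, hA' ▸ card_le_card subset_union_left, hB' ▸ card_le_card subset_union_right⟩
  have hval : b1 = false ∧ b2 = true ∧ b3 = false := by
    obtain ⟨u1, u2, u3⟩ := hd (A := bif b1 then listSet (ptsOf S.o20) else ∅)
      (B := bif b2 then listSet (ptsOf S.o320) else ∅) rfl rfl
    obtain ⟨v1, v2, v3⟩ := hd (A := (bif b1 then listSet (ptsOf S.o20) else (∅ : Finset (Fin S.A.N))) ∪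
      bif b2 then listSet (ptsOf S.o320) else ∅) (B := bif b3 then listSet (ptsOf S.o1024) else ∅) rfl rfl
    rw [← hT] at v1 v2 v3
    have hdis : Disjoint (listSet (ptsOf S.o20) : Finset (Fin S.A.N)) (listSet (ptsOf S.o320)) := by
      have hnd := nodup_of_ndB (subParts h.sub).nd
      rw [List.nodup_cons, List.nodup_append, List.nodup_append] at hnd
      rw [disjoint_left]
      intro q hq hq'
      exact hnd.2.1.2.2 _ (mem_listSet.1 hq) _ (mem_listSet.1 hq') rfl
    simp only [List.mem_cons, List.not_mem_nil, or_false] at hm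
    cases b1 <;> cases b2 <;> cases b3 <;>
      simp only [Bool.cond_true, Bool.cond_false, c1, c2, c3, card_empty, card_union_of_disjoint hdis]
        at u1 u2 u3 v1 v2 v3 <;>
      first | exact ⟨rfl, rfl, rfl⟩ | omega
  obtain ⟨rfl, rfl, rfl⟩ := hval
  simp only [Bool.cond_true, Bool.cond_false, empty_union, union_empty] at hT
  have h320 : #T = 320 := by rw [hT, c2]
  have hm96 : m = 96 := by omega
  refine ⟨by omega, hm96, fun q => ?_⟩
  rw [← mem_listSet (n := S.A.N), ← hT]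
  simp [T]

theorem Far.adj_far (hA : Around Γ a r l m) (hF : Far h Γ a r φ) (y : H0) (q : Fin S.A.N) :
    Γ.Adj (φ (h.H.θ y h.o)) (φ q) ↔ q ∈ h.far y := by
  obtain ⟨q', rfl⟩ : ∃ q', h.H.θ y q' = q := ⟨_, (h.H.θ y).apply_symm_apply q⟩
  rw [hF.equiv, hF.equiv, hA.inv, (hF.params hA).2.2 q', h.mem_far, map_inv,
    show (h.H.θ y)⁻¹ (h.H.θ y q') = q' from (h.H.θ y).symm_apply_apply q']

/-- Common neighbours near the base of two far vertices. -/
theorem Far.near_count (hA : Around Γ a r l m) (hF : Far h Γ a r φ) (y z : H0) (hne : h.H.θ y h.o ≠ h.H.θ z h.o) :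
    #(univ.filter fun u => Γ.Adj a u ∧ Γ.Adj u (φ (h.H.θ y h.o)) ∧ Γ.Adj u (φ (h.H.θ z h.o))) + #(h.far y ∩ h.far z) =
      if h.H.θ z h.o ∈ h.far y then 100 else 96 := by
  classical
  obtain ⟨hl, hm, -⟩ := hF.params hA
  have hadj := hF.adj_far hA y (h.H.θ z h.o)
  set x := φ (h.H.θ y h.o) with hx
  set x' := φ (h.H.θ z h.o) with hx'
  have hxx : x ≠ x' := fun e => hne (hF.inj e)
  have hsplit : (univ.filter fun w => Γ.Adj x w ∧ Γ.Adj x' w) =
      (univ.filter fun u => Γ.Adj a u ∧ Γ.Adj u x ∧ Γ.Adj u x') ∪ (h.far y ∩ h.far z).image φ := by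
    ext w
    simp only [mem_union, mem_filter, mem_univ, true_and, mem_image, mem_inter]
    constructor
    · intro hw
      by_cases hwa : Γ.Adj a w
      · exact Or.inl ⟨hwa, hw.1.symm, hw.2.symm⟩
      · obtain ⟨q, rfl⟩ := (hF.far w).1 ⟨fun e => (hF.not_adj _).2 ((e ▸ hw.1 : Γ.Adj x a)).symm, hwa⟩
        exact Or.inr ⟨q, ⟨(hF.adj_far hA y q).1 hw.1, (hF.adj_far hA z q).1 hw.2⟩, rfl⟩
    · rintro (⟨-, h1, h2⟩ | ⟨q, ⟨h1, h2⟩, rfl⟩)
      · exact ⟨h1.symm, h2.symm⟩
      · exact ⟨(hF.adj_far hA y q).2 h1, (hF.adj_far hA z q).2 h2⟩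
  have hdis : Disjoint (univ.filter fun u => Γ.Adj a u ∧ Γ.Adj u x ∧ Γ.Adj u x') ((h.far y ∩ h.far z).image φ) := by
    rw [disjoint_left]
    intro w hw hw'
    obtain ⟨q, -, rfl⟩ := mem_image.1 hw'
    exact (hF.not_adj q).2 (mem_filter.1 hw).2.1
  have hc := congrArg Finset.card hsplit
  rw [card_union_of_disjoint hdis, card_image_of_injective _ hF.inj] at hc
  rw [← hc]
  by_cases hq : h.H.θ z h.o ∈ h.far y
  · rw [if_pos hq, hA.adj _ _ (hadj.2 hq), hl]
  · rw [if_neg hq, hA.nadj _ _ hxx (fun e => hq (hadj.1 e)), hm]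

/-- Neighbours near the base of a far vertex. -/
theorem Far.near_one (hA : Around Γ a r l m) (hF : Far h Γ a r φ) (p : Fin S.A.N) :
    #(univ.filter fun u => Γ.Adj a u ∧ Γ.Adj u (φ p)) = 96 := by
  rw [← (hF.params hA).2.1, ← hA.nadj (φ p) a (hF.not_adj p).1 (fun e => (hF.not_adj p).2 e.symm)]
  congr 1
  ext u
  simp only [mem_filter, mem_univ, true_and]
  exact ⟨fun ⟨h1, h2⟩ => ⟨h2.symm, h1⟩, fun ⟨h1, h2⟩ => ⟨h2, h1.symm⟩⟩

theorem SideOk.count_parts (h : SideOk S) : (∀ k : Fin 20,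
      h.cp k ≠ h.o ∧ h.cp k ∉ h.far 1 ∧
        cvalB (maskOf (ptsOf S.o320)) (h.cp k) (S.nbs.getD k []) = 48) ∧
    (∑ j : Fin 20, ∑ k : Fin 20, bif Nat.beq j k then 96
      else cvalB (maskOf (S.nbs.getD j [])) (h.cp k) (S.nbs.getD k [])) = 12480 := by
  have hc := h.count
  simp only [chkCount, force_eq, Bool.and_eq_true, List.all_eq_true, List.mem_range, Bool.not_eq_true'] at hc
  refine ⟨fun k => ?_, ?_⟩
  · obtain ⟨h1, h2⟩ := hc.1.1.1 k k.2
    rw [← h.cp_val] at h1 h2
    refine ⟨fun e => ?_, fun hm => ?_, Nat.eq_of_beq_eq_true h2⟩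
    · have hm : (h.cp k : ℕ) ∈ S.clW.map fun w => S.A.go w S.root := by
        have hl : S.clW.length = 20 := by
          have hc' := h.nbs
          simp only [chkNbs, Bool.and_eq_true] at hc'
          exact Nat.eq_of_beq_eq_true hc'.1.1.1
        rw [h.cp_val]
        exact List.mem_map.2 ⟨_, getD_mem (by rw [hl]; exact k.2), rfl⟩
      rw [maskOf_eq.1 (Nat.eq_of_beq_eq_true hc.1.1.2), e] at hm
      have hnd := nodup_of_ndB (subParts h.sub).nd
      exact (List.nodup_cons.1 hnd).1 (List.mem_append_left _ (List.mem_append_left _ hm))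
    · rw [h.far_one, mem_listSet] at hm
      exact Bool.false_ne_true (h1.symm.trans (bit_maskOf.2 hm))
  · have h2 := Nat.eq_of_beq_eq_true hc.2
    rw [← h2]
    rw [Fin.sum_univ_def, ← List.map_coe_finRange_eq_range (n := 20), List.map_map]
    refine congrArg List.sum (List.map_congr_left fun j _ => ?_)
    rw [Fin.sum_univ_def, Function.comp_apply, List.map_map]
    exact congrArg List.sum (List.map_congr_left fun k _ => by rw [Function.comp_apply, h.cp_val])

/-- The twenty points collinear to the base meet the neighbours of a near vertex in ten or three points. -/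
theorem Far.ten_three (hA : Around Γ a r l m) (hF : Far h Γ a r φ) {u : Ω} (hu : Γ.Adj a u) :
    #(univ.filter fun k : Fin 20 => Γ.Adj u (φ (h.cp k))) = if Γ.Adj u (φ h.o) then 10 else 3 := by
  classical
  obtain ⟨hpart, hpair⟩ := h.count_parts
  set N := univ.filter fun u => Γ.Adj a u
  let n : Fin 20 → Ω → ℤ := fun k u => if Γ.Adj u (φ (h.cp k)) then 1 else 0
  let n0 : Ω → ℤ := fun u => if Γ.Adj u (φ h.o) then 1 else 0
  have hCC : ∀ (P Q : Ω → Prop) [DecidablePred P] [DecidablePred Q],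
      ∑ u ∈ N, ((if P u then 1 else 0 : ℤ) * if Q u then 1 else 0) =
        (#(univ.filter fun u => Γ.Adj a u ∧ P u ∧ Q u) : ℤ) := by
    intro P Q _ _
    rw [← filter_filter, card_filter, Nat.cast_sum]
    exact sum_congr rfl fun u _ => by by_cases hP : P u <;> by_cases hQ : Q u <;> simp [hP, hQ]
  have hself : ∀ p, ∑ u ∈ N, ((if Γ.Adj u (φ p) then 1 else 0 : ℤ) * if Γ.Adj u (φ p) then 1 else 0) = 96 := fun p => by
    rw [hCC]
    simp only [and_self]
    exact_mod_cast hF.near_one hA p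
  have hone : ∀ k, ∑ u ∈ N, n k u = 96 := fun k => by
    rw [← hself (h.cp k)]
    exact sum_congr rfl fun u _ => by simp only [n]; by_cases hk : Γ.Adj u (φ (h.cp k)) <;> simp [hk]
  have hzero : ∑ u ∈ N, n0 u = 96 := by
    rw [← hself h.o]
    exact sum_congr rfl fun u _ => by simp only [n0]; by_cases hk : Γ.Adj u (φ h.o) <;> simp [hk]
  have hbase : ∀ k, ∑ u ∈ N, n0 u * n k u = 48 := fun k => by
    rw [hCC]
    obtain ⟨hne, hnf, hv⟩ := hpart k
    have he : h.H.θ 1 h.o = h.o := by rw [map_one]; rfl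
    have h1 := hF.near_count hA 1 (ev gH (S.clW.getD k [])) (by rw [he]; exact hne.symm)
    rw [he, show h.H.θ (ev gH (S.clW.getD k [])) h.o = h.cp k from rfl, if_neg hnf,
      h.card_far_inter _ h.far_one_mask k] at h1
    rw [cvalB, show bit (maskOf (ptsOf S.o320)) (h.cp k) = false by
      rw [Bool.eq_false_iff]; intro e; exact hnf (by rw [h.far_one_mask]; exact mem_filter.2 ⟨mem_univ _, e⟩),
      Bool.cond_false] at hv
    exact_mod_cast (by omega : #(univ.filter fun u => Γ.Adj a u ∧ Γ.Adj u (φ h.o) ∧ Γ.Adj u (φ (h.cp k))) = 48)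
  have hjk : ∀ j k, ∑ u ∈ N, n j u * n k u = ((bif Nat.beq (j : ℕ) k then 96
      else cvalB (maskOf (S.nbs.getD j [])) (h.cp k) (S.nbs.getD k [])) : ℕ) := by
    intro j k
    by_cases hjk : j = k
    · subst hjk
      rw [show Nat.beq (j : ℕ) j = true from Nat.beq_refl _, Bool.cond_true]
      simp only [n, Nat.cast_ofNat]
      exact hself (h.cp j)
    · rw [show Nat.beq (j : ℕ) k = false from Bool.eq_false_iff.2 fun e => hjk (Fin.ext (Nat.eq_of_beq_eq_true e)),
        Bool.cond_false, hCC]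
      have h1 := hF.near_count hA (ev gH (S.clW.getD j [])) (ev gH (S.clW.getD k []))
        (fun e => hjk (h.cp_injective e))
      rw [show h.H.θ (ev gH (S.clW.getD j [])) h.o = h.cp j from rfl,
        show h.H.θ (ev gH (S.clW.getD k [])) h.o = h.cp k from rfl, h.card_far_inter _ (h.far_cp_mask j) k] at h1
      rw [cvalB]
      by_cases hb : h.cp k ∈ h.far (ev gH (S.clW.getD j []))
      · rw [if_pos hb] at h1
        rw [h.far_cp_mask, mem_filter] at hb
        rw [hb.2, Bool.cond_true]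
        rw [Nat.cast_inj]
        omega
      · rw [if_neg hb] at h1
        rw [h.far_cp_mask, mem_filter] at hb
        rw [Bool.eq_false_iff.2 fun e => hb ⟨mem_univ _, e⟩, Bool.cond_false]
        rw [Nat.cast_inj]
        omega
  let f : Ω → ℤ := fun u => ∑ k, n k u - 7 * n0 u - 3
  have hN : #N = 416 := hA.deg a
  have h00 : ∑ u ∈ N, n0 u * n0 u = 96 := hself h.o
  have hsq : ∑ u ∈ N, ∑ j, ∑ k, n j u * n k u = 12480 := by
    rw [sum_comm, sum_congr rfl fun j _ => sum_comm, sum_congr rfl fun j _ => sum_congr rfl fun k _ => hjk j k]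
    exact_mod_cast hpair
  have hmix : ∑ u ∈ N, ∑ k, n0 u * n k u = 960 := by
    rw [sum_comm, sum_congr rfl fun k _ => hbase k]
    simp
  have hlin : ∑ u ∈ N, ∑ k, n k u = 1920 := by
    rw [sum_comm, sum_congr rfl fun k _ => hone k]
    simp
  have hf : ∑ u ∈ N, f u * f u = 0 := by
    have e : ∀ u, f u * f u = (∑ j, ∑ k, n j u * n k u) - 14 * (∑ k, n0 u * n k u) + 49 * (n0 u * n0 u) -
        6 * (∑ k, n k u) + 42 * n0 u + 9 := fun u => by
      rw [← sum_mul_sum, ← mul_sum]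
      simp only [f]
      ring
    rw [sum_congr rfl fun u _ => e u, sum_add_distrib, sum_add_distrib, sum_sub_distrib, sum_add_distrib,
      sum_sub_distrib, ← mul_sum, ← mul_sum, ← mul_sum, ← mul_sum, sum_const, hN, hzero, h00, hsq, hmix, hlin]
    norm_num
  have h0 := (sum_eq_zero_iff_of_nonneg fun u _ => mul_self_nonneg (f u)).1 hf u (mem_filter.2 ⟨mem_univ _, hu⟩)
  have h1 : ∑ k, n k u = 7 * n0 u + 3 := by
    have := mul_self_eq_zero.1 h0
    simp only [f] at this
    linarith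
  have h2 : ∑ k, n k u = (#(univ.filter fun k : Fin 20 => Γ.Adj u (φ (h.cp k))) : ℤ) := by
    rw [card_filter, Nat.cast_sum]
    exact sum_congr rfl fun k _ => by simp [n]
  rw [h2] at h1
  simp only [n0] at h1
  split_ifs at h1 ⊢ with hb <;> omega

end Cfsg.Agent.Spor.SuzRec
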