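import Cfsg.Agent.Lib.Spor.SuzRec.Std
import Cfsg.Agent.Lib.Spor.SuzRec.HexAut

/-! The automorphisms of the standard graph fixing the base vertex. -/

set_option autoImplicit false
set_option maxRecDepth 100000
set_option maxHeartbeats 1000000

open Cfsg.Agent.Spor.Cos Finset

namespace Cfsg.Agent.Spor.SuzRec

open Fus.GTwoJ2 (oAll oSmall)

variable {E : SimpleGraph V} [DecidableRel E.Adj]

theorem hexP_eq : hexP = hexO := rfl

/-- The points at distance two from an image of the base. -/
noncomputable def farH (y : H0) : Finset (Fin hexA.N) := hexOk.far y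

theorem mem_farH (y : H0) (q : Fin hexA.N) :
    q ∈ farH y ↔ ((hexH.θ y⁻¹ q : Fin hexA.N) : ℕ) ∈ ptsOf hexO320 := hexOk.mem_far

theorem farH_mask : farH 1 = univ.filter fun p : Fin hexA.N => bit (maskOf (ptsOf hexO320)) p = true :=
  hexOk.far_one_mask

theorem farH_cp (k : Fin 20) : #(farH (ev gH (hexS.clW.getD k [])) ∩ farH 1) =
    ((hexS.nbs.getD k []).filter fun x => bit (maskOf (ptsOf hexO320)) x).length := by
  rw [inter_comm]; exact hexOk.card_far_inter _ hexOk.far_one_mask k

/-- Common neighbours among the far vertices. -/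
noncomputable def farCommon (E : SimpleGraph V) [DecidableRel E.Adj] (p q : Fin hexA.N) : ℕ :=
  #(univ.filter fun x : Fin hexA.N => E.Adj (emb p) (emb x) ∧ E.Adj (emb q) (emb x))

theorem adj_emb (h : Std E piV id) (y : H0) (p q : Fin hexA.N) :
    E.Adj (emb (hexH.θ y p)) (emb (hexH.θ y q)) ↔ E.Adj (emb p) (emb q) := by
  rw [← piV_emb, ← piV_emb]; exact h.inv y _ _

theorem farCommon_theta (h : Std E piV id) (y : H0) (p q : Fin hexA.N) :
    farCommon E (hexH.θ y p) (hexH.θ y q) = farCommon E p q := by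
  rw [farCommon, farCommon]
  conv_rhs => rw [← card_image_of_injective _ (hexH.θ y).injective]
  congr 1
  ext x
  simp only [mem_filter, mem_univ, true_and, mem_image]
  constructor
  · intro hx
    obtain ⟨x', rfl⟩ := (hexH.θ y).surjective x
    rw [adj_emb h, adj_emb h] at hx
    exact ⟨x', hx, rfl⟩
  · rintro ⟨x', hx, rfl⟩
    rw [adj_emb h, adj_emb h]
    exact hx

theorem adj_far (h : Std E piV id) (y : H0) (q : Fin hexA.N) :
    E.Adj (emb (hexH.θ y hexO)) (emb q) ↔ q ∈ farH y := by
  obtain ⟨q', rfl⟩ := (hexH.θ y).surjective q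
  rw [adj_emb h]
  refine Iff.trans ?_ (mem_farH y _).symm
  refine (h.far q').trans (iff_of_eq (congrArg (fun t : Fin hexA.N => (t : ℕ) ∈ ptsOf hexO320) ?_))
  show q' = hexH.θ y⁻¹ (hexH.θ y q')
  rw [map_inv]
  exact ((hexH.θ y).symm_apply_apply q').symm

theorem farCommon_base (h : Std E piV id) (y : H0) :
    farCommon E hexO (hexH.θ y hexO) = #(farH y ∩ farH 1) := by
  refine congrArg Finset.card (Finset.ext fun x => ?_)
  simp only [mem_filter, mem_univ, true_and, mem_inter]
  rw [adj_far h y x]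
  have h1 : hexH.θ 1 hexO = hexO := by rw [map_one]; rfl
  conv_lhs => rw [← h1, adj_far h 1 x]
  exact And.comm

/-- Collinearity is read off the graph. -/
theorem col_iff (h : Std E piV id) (p q : Fin hexA.N) :
    Col p q ↔ p ≠ q ∧ ¬ E.Adj (emb p) (emb q) ∧ farCommon E p q = 48 := by
  classical
  obtain ⟨y, hy, hq⟩ := col_translate p
  obtain ⟨q', rfl⟩ := (hexH.θ y).surjective q
  rw [hq, show hexH.θ y⁻¹ (hexH.θ y q') = q' by rw [map_inv]; exact (hexH.θ y).symm_apply_apply q', ← hy,
    (hexH.θ y).injective.ne_iff, adj_emb h, farCommon_theta h]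
  show _ ↔ hexO ≠ q' ∧ ¬ E.Adj (emb hexO) (emb q') ∧ farCommon E hexO q' = 48
  obtain ⟨t1, t2, t3, -, -, -, hcov⟩ := hexOk.suborbits
  have hnd := nodup_of_ndB (subParts hexOk.sub).nd
  rw [List.nodup_cons, List.nodup_append, List.nodup_append] at hnd
  constructor
  · intro h20
    have hne : hexO ≠ q' := fun e => hnd.1 (List.mem_append_left _ (List.mem_append_left _
      (show ((hexO : Fin hexA.N) : ℕ) ∈ ptsOf hexS.o20 by rw [e]; exact h20)))
    refine ⟨hne, fun e => hnd.2.1.2.2 _ h20 _ ((h.far q').1 e) rfl, ?_⟩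
    obtain ⟨k, hk⟩ : ∃ k : Fin 20, hexOk.cp k = q' := by
      have hc := hexOk.count
      simp only [chkCount, Bool.and_eq_true] at hc
      have hm := (maskOf_eq.1 (Nat.eq_of_beq_eq_true hc.1.1.2) q').2 h20
      obtain ⟨w, hw, e⟩ := List.mem_map.1 hm
      obtain ⟨i, hi, rfl⟩ := List.getElem_of_mem hw
      have hl : hexS.clW.length = 20 := by
        have hc' := hexOk.nbs
        simp only [chkNbs, Bool.and_eq_true] at hc'
        exact Nat.eq_of_beq_eq_true hc'.1.1.1
      refine ⟨⟨i, hl ▸ hi⟩, Fin.ext ?_⟩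
      rw [hexOk.cp_val, List.getD_eq_getElem _ _ hi]
      exact e
    obtain ⟨hpart, -⟩ := hexOk.count_parts
    obtain ⟨-, hnf, hv⟩ := hpart k
    rw [← hk, show hexOk.cp k = hexH.θ (ev gH (hexS.clW.getD k [])) hexO from rfl, farCommon_base h, farH_cp]
    have hbit : bit (maskOf (ptsOf hexS.o320)) (hexOk.cp k) = false := by
      rw [Bool.eq_false_iff]
      intro e
      exact hnf (by rw [hexOk.far_one_mask]; exact mem_filter.2 ⟨mem_univ _, e⟩)
    rw [cvalB, hbit, Bool.cond_false, show hexS.o320 = hexO320 from rfl] at hv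
    omega
  · rintro ⟨hne, hnadj, hcnt⟩
    rcases hcov q' with e | e | e | e
    · exact absurd e.symm hne
    · exact e
    · exact absurd ((h.far q').2 e) hnadj
    · exfalso
      have hlt : hexO1024.1 < hexA.N := tree_lt t3 (List.mem_cons_self ..)
      have hrep : farCommon E hexO ⟨_, hlt⟩ = 48 := by
        rw [← hcnt]
        have := hexOk.tree_prop t3 (fun t : Fin hexA.N => farCommon E hexO t = farCommon E hexO ⟨_, hlt⟩)
          (fun w hw t ht => by
            have hf := farCommon_theta h (ev gH w) hexO t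
            rw [show hexH.θ (ev gH w) hexO = hexO from (hexOk.stW_fix hw).2] at hf
            exact hf.trans ht) hlt rfl q' e
        exact this.symm
      have hf := far_ok
      simp only [chkFar, force_eq, Bool.and_eq_true, Bool.not_eq_true'] at hf
      obtain ⟨⟨hl, hgo⟩, -, hne48⟩ := hf
      have hw : ∀ s ∈ farW, s < 6 := Act.lt_of_lettersOk (n := 6) hl (List.mem_cons_self ..)
      rw [show (⟨hexO1024.1, hlt⟩ : Fin hexA.N) = hexH.θ (ev gH farW) hexO from
        Fin.ext ((hexH.spec _ hw _).trans (Nat.eq_of_beq_eq_true hgo)).symm, farCommon_base h] at hrep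
      have hcount : #(farH (ev gH farW) ∩ farH 1) =
          (((ptsOf hexO320).map fun x => hexA.go farW x).filter fun x => bit (maskOf (ptsOf hexO320)) x).length := by
        have hgo' : ∀ x : Fin hexA.N, (hexH.θ (ev gH farW) x : ℕ) = hexA.go farW x := fun x => hexH.spec _ hw x
        have hlt' : ∀ x ∈ ptsOf hexO320, x < hexA.N := fun x hx => tree_lt t2 hx
        have hndm : ((ptsOf hexO320).map fun x => hexA.go farW x).Nodup := by
          refine List.Nodup.map_on (fun x hx z hz hxz => ?_)
            (nodup_of_ndB (Bool.and_eq_true_iff.1 (subParts hexOk.sub).c320).2)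
          exact congrArg Fin.val ((hexH.θ (ev gH farW)).injective (a₁ := ⟨x, hlt' x hx⟩) (a₂ := ⟨z, hlt' z hz⟩)
            (Fin.ext (by rw [hgo', hgo']; exact hxz)))
        rw [← card_listSet (n := hexA.N) (hndm.filter _) fun x hx => by
          obtain ⟨z, hz, rfl⟩ := List.mem_map.1 (List.mem_of_mem_filter hx)
          exact hgo' ⟨z, hlt' z hz⟩ ▸ (hexH.θ _ _).2]
        congr 1
        ext x
        rw [mem_inter, mem_listSet, List.mem_filter, List.mem_map, bit_maskOf, farH_mask, mem_filter, bit_maskOf]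
        simp only [mem_univ, true_and]
        refine and_congr_left fun _ => ?_
        rw [show farH (ev gH farW) = (listSet (ptsOf hexO320) : Finset (Fin hexA.N)).image (hexH.θ (ev gH farW)) from rfl,
          mem_image]
        constructor
        · rintro ⟨z, hz, rfl⟩
          exact ⟨z, mem_listSet.1 hz, (hgo' z).symm⟩
        · rintro ⟨z, hz, hzx⟩
          exact ⟨⟨z, hlt' z hz⟩, mem_listSet.2 hz, Fin.ext ((hgo' _).trans hzx)⟩
      rw [hcount] at hrep
      rw [hrep] at hne48
      simp at hne48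

/-- The automorphisms. -/
def autE (E : SimpleGraph V) : Subgroup (Equiv.Perm V) where
  carrier := {π | ∀ x z, E.Adj (π x) (π z) ↔ E.Adj x z}
  one_mem' := fun _ _ => Iff.rfl
  mul_mem' := fun {a b} ha hb x z => (ha (b x) (b z)).trans (hb x z)
  inv_mem' := fun {a} ha x z => by
    have h := ha (a⁻¹ x) (a⁻¹ z)
    rw [show a (a⁻¹ x) = x from a.apply_symm_apply x, show a (a⁻¹ z) = z from a.apply_symm_apply z] at h
    exact h.symm

theorem near_of_mixed (h : Std E piV id) {x z : V} (hx : oAll.mem x = true) (hz : oAll.mem z = true)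
    (he : ∀ q, E.Adj x (emb q) ↔ E.Adj z (emb q)) : x = z := by
  obtain ⟨y, rfl⟩ := near_orbit hx
  obtain ⟨y', rfl⟩ := near_orbit hz
  have hR : ∀ y q, E.Adj (piV y u0) (emb q) ↔ InR (hexH.θ y⁻¹ q) := fun y q => by
    conv_lhs => rw [← theta_inv_self y q, ← piV_emb]
    exact (h.inv y _ _).trans (h.mixed _)
  have hmem : y'⁻¹ * y ∈ J := by
    rw [← stR_eq]
    intro p
    have := he (hexH.θ y p)
    rw [hR, hR] at this
    rw [map_mul, Equiv.Perm.mul_apply]
    refine this.symm.trans (iff_of_eq (congrArg InR ?_))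
    rw [map_inv]
    exact (hexH.θ y).symm_apply_apply p
  have e := mem_J.1 hmem
  rw [map_mul, map_inv, Equiv.Perm.mul_apply, Equiv.Perm.inv_eq_iff_eq] at e
  exact e

theorem card_autE (h : Std E piV id) : Nat.card (autE E) ≤ 1782 * 503193600 := by
  classical
  set A := autE E
  have hst := Nat.card_congr (MulAction.orbitProdStabilizerEquivGroup A v0)
  rw [Nat.card_prod] at hst
  rw [← hst]
  refine Nat.mul_le_mul ?_ ?_
  · refine (Nat.card_le_card_of_injective (Subtype.val : MulAction.orbit A v0 → V) Subtype.val_injective).trans ?_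
    rw [Nat.card_fin]
    exact le_rfl
  have hbase : ∀ π ∈ A, π v0 = v0 → ∀ v, oAll.mem (π v) = true ↔ oAll.mem v = true := by
    intro π hπ h0 v
    have h1 := h.base v
    have h2 := h.base (π v)
    simp only [id] at h1 h2
    rw [← h1, ← h2]
    conv_lhs => rw [← h0]
    exact hπ v0 v
  have hfar : ∀ π ∈ A, π v0 = v0 → ∀ p, ∃ q, emb q = π (emb p) := by
    intro π hπ h0 p
    rcases kind_cases (π (emb p)) with ⟨e, -⟩ | ⟨e, -⟩ | e
    · exact absurd (π.injective (e.trans h0.symm)) emb_ne_v0
    · rw [hbase π hπ h0, emb_ne_near] at e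
      cases e
    · exact e
  let S := MulAction.stabilizer A v0
  have hmem : ∀ g : S, (g.1 : Equiv.Perm V) ∈ A ∧ (g.1 : Equiv.Perm V) v0 = v0 := fun g => ⟨g.1.2, g.2⟩
  choose f hf using fun (g : S) p => hfar _ (hmem g).1 (hmem g).2 p
  have hfinj : ∀ g, Function.Injective (f g) := fun g p q e =>
    emb_injective ((g.1 : Equiv.Perm V).injective ((hf g p).symm.trans ((congrArg emb e).trans (hf g q))))
  let σ : S →* Equiv.Perm (Fin hexA.N) :=
    MonoidHom.mk' (fun g => Equiv.ofBijective (f g) (Finite.injective_iff_bijective.1 (hfinj g))) fun g k =>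
      Equiv.ext fun p => emb_injective (by
        show emb (f (g * k) p) = emb (f g (f k p))
        rw [hf, hf, hf]
        rfl)
  have hσ : ∀ g p, emb (σ g p) = (g.1 : Equiv.Perm V) (emb p) := fun g p => hf g p
  have hσinj : Function.Injective σ := by
    intro g k e
    have he : ∀ p, (g.1 : Equiv.Perm V) (emb p) = (k.1 : Equiv.Perm V) (emb p) := fun p => by
      rw [← hσ, ← hσ, e]
    refine Subtype.ext (Subtype.ext (Equiv.ext fun v => ?_))
    rcases kind_cases v with ⟨rfl, -⟩ | ⟨hv, -⟩ | ⟨p, rfl⟩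
    · exact (hmem g).2.trans (hmem k).2.symm
    · refine near_of_mixed h ((hbase _ (hmem g).1 (hmem g).2 v).2 hv) ((hbase _ (hmem k).1 (hmem k).2 v).2 hv)
        fun q => ?_
      obtain ⟨q', rfl⟩ := (σ g).surjective q
      rw [hσ, (hmem g).1, he, (hmem k).1]
    · exact he p
  refine le_trans (le_of_eq (Nat.card_congr (MonoidHom.ofInjective hσinj).toEquiv)) (card_col_le σ.range ?_)
  rintro π ⟨g, rfl⟩ p q
  have hadj : ∀ x z, E.Adj (emb (σ g x)) (emb (σ g z)) ↔ E.Adj (emb x) (emb z) := fun x z => by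
    rw [hσ, hσ]; exact (hmem g).1 _ _
  rw [col_iff h, col_iff h, (σ g).injective.ne_iff, hadj]
  refine and_congr_right fun _ => and_congr_right fun _ => ?_
  rw [show farCommon E (σ g p) (σ g q) = farCommon E p q from ?_]
  rw [farCommon, farCommon]
  conv_rhs => rw [← card_image_of_injective _ (σ g).injective]
  congr 1
  ext x
  simp only [mem_filter, mem_univ, true_and, mem_image]
  constructor
  · intro hx
    obtain ⟨x', rfl⟩ := (σ g).surjective x
    rw [hadj, hadj] at hx
    exact ⟨x', hx, rfl⟩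
  · rintro ⟨x', hx, rfl⟩
    rw [hadj, hadj]
    exact hx

end Cfsg.Agent.Spor.SuzRec
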