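import Cfsg.Agent.Lib.Spor.SuzRec.CheckHex
import Cfsg.Agent.Lib.Spor.SuzRec.CheckLine
import Cfsg.Agent.Lib.Spor.SuzRec.CheckMisc
import Cfsg.Agent.Lib.Fus.GTwoFourJ2

/-! The point stabiliser of the Suzuki group on the points and on the lines of its hexagon. -/

set_option autoImplicit false
set_option maxRecDepth 100000

open Cfsg.Agent.Spor.Cos

namespace Cfsg.Agent.Spor.SuzRec

/-- The point stabiliser. -/
abbrev H0 : Type := ↥(val Cos.Suz.g Cos.Suz.lv1W)

instance : Finite Cfsg.Spor.Suz := Cos.Suz.finite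

theorem mem_lv1 : ∀ s < 6, [s] ∈ Cos.Suz.lv1W := by decide +kernel

theorem g_mem {s : ℕ} (h : s < 6) : Cos.Suz.g s ∈ val Cos.Suz.g Cos.Suz.lv1W := by
  have := mem_val (g := Cos.Suz.g) (mem_lv1 s h)
  rwa [ev, ev, mul_one] at this

/-- Its generators by number. -/
noncomputable def gH (s : ℕ) : H0 :=
  if h : s < 6 then ⟨Cos.Suz.g s, g_mem h⟩ else 1

theorem gH_val {s : ℕ} (h : s < 6) : (gH s : Cfsg.Spor.Suz) = Cos.Suz.g s := by rw [gH, dif_pos h]

theorem gH_sq (s : ℕ) : gH s * gH s = 1 := by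
  by_cases h : s < 6
  · exact Subtype.ext (by rw [Subgroup.coe_mul, gH_val h, Cos.Suz.g_sq]; rfl)
  · rw [gH, dif_neg h, one_mul]

theorem ev_gH_val : ∀ {w : List ℕ}, (∀ s ∈ w, s < 6) → ((ev gH w : H0) : Cfsg.Spor.Suz) = ev Cos.Suz.g w
  | [], _ => rfl
  | s :: w, h => by
    rw [ev, ev, Subgroup.coe_mul, gH_val (h s (List.mem_cons_self ..)),
      ev_gH_val fun t ht => h t (List.mem_cons_of_mem _ ht)]

theorem exists_word (y : H0) : ∃ w : List ℕ, (∀ s ∈ w, s < 6) ∧ ev gH w = y := by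
  obtain ⟨y, hy⟩ := y
  suffices ∃ w : List ℕ, (∀ s ∈ w, s < 6) ∧ ev Cos.Suz.g w = y by
    obtain ⟨w, hw, e⟩ := this
    exact ⟨w, hw, Subtype.ext ((ev_gH_val hw).trans e)⟩
  induction hy using Subgroup.closure_induction with
  | mem y hy =>
    obtain ⟨w, hw, rfl⟩ := hy
    exact ⟨w, fun s hs => Act.lt_of_lettersOk (n := 6) (by decide +kernel) hw s hs, rfl⟩
  | one => exact ⟨[], by simp, rfl⟩
  | mul a b _ _ ha hb =>
    obtain ⟨v, hv, rfl⟩ := ha
    obtain ⟨w, hw, rfl⟩ := hb
    exact ⟨v ++ w, fun s hs => (List.mem_append.1 hs).elim (hv s) (hw s), ev_append _ v w⟩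
  | inv a _ ha =>
    obtain ⟨v, hv, rfl⟩ := ha
    exact ⟨v.reverse, fun s hs => hv s (List.mem_reverse.1 hs),
      ev_reverse (n := 6) (fun s _ => Cos.Suz.g_sq s) v hv⟩

/-- The vertices. -/
abbrev V : Type := Fin Cos.Suz.actA.N

/-- The action on the vertices. -/
noncomputable def piV : H0 →* Equiv.Perm V := Cos.Suz.piA.comp (Subgroup.subtype _)

theorem piV_ev {w : List ℕ} (hw : ∀ s ∈ w, s < 6) (v : V) : (piV (ev gH w) v : ℕ) = Cos.Suz.actA.go w v := by
  show (Cos.Suz.piA ((ev gH w : H0) : Cfsg.Spor.Suz) v : ℕ) = _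
  rw [ev_gH_val hw]
  exact Cos.Suz.homA.apply_ev w (fun s hs => lt_trans (hw s hs) (by decide)) v

theorem piA_injective : Function.Injective Cos.Suz.piA := fun x y e => by
  refine mul_inv_eq_one.1 (Cos.Suz.det _ fun q _ => ?_)
  rw [map_mul, map_inv, e, mul_inv_cancel]; rfl

theorem piV_injective : Function.Injective piV := fun _ _ e => Subtype.ext (piA_injective e)

/-- An action of the point stabiliser given by a table. -/
structure SideHom (A : Act) where
  /-- the homomorphism -/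
  θ : H0 →* Equiv.Perm (Fin A.N)
  spec : ∀ w : List ℕ, (∀ s ∈ w, s < 6) → ∀ p, (θ (ev gH w) p : ℕ) = A.go w p

theorem exists_sideHom (A : Act) (hinv : ∀ p < A.N, A.chkInv p = true) (hn : A.n = 6)
    (hwd : ∀ w : List ℕ, (∀ s ∈ w, s < 6) → ev gH w = 1 → ∀ p, p < A.N → A.go w p = p) :
    Nonempty (SideHom A) := by
  choose wd hwd1 hwd2 using exists_word
  have hLw : ∀ w : List ℕ, (∀ s ∈ w, s < 6) → ∀ p : Fin A.N, (ev A.perm w p : ℕ) = A.go w p :=
    fun w hw p => A.ev_apply hinv w (by rw [hn]; exact hw) p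
  have key : ∀ v w : List ℕ, (∀ s ∈ v, s < 6) → (∀ s ∈ w, s < 6) → ev gH v = ev gH w → ev A.perm v = ev A.perm w := by
    intro v w hv hw e
    have hvr : ∀ s ∈ v.reverse, s < 6 := fun s hs => hv s (List.mem_reverse.1 hs)
    have h1 : ∀ s ∈ v.reverse ++ w, s < 6 := fun s hs => (List.mem_append.1 hs).elim (hvr s) (hw s)
    have h2 : ev gH (v.reverse ++ w) = 1 := by
      rw [ev_append, ev_reverse (n := 6) (fun s _ => gH_sq s) v hv, e, inv_mul_cancel]
    have h3 : ev A.perm (v.reverse ++ w) = 1 := Equiv.ext fun p => Fin.ext (by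
      rw [hLw _ h1, hwd _ h1 h2 p p.2]; rfl)
    rw [ev_append, ev_reverse (n := 6) (fun s _ => A.perm_sq s) v hv, inv_mul_eq_one] at h3
    exact h3
  refine ⟨⟨MonoidHom.mk' (fun y => ev A.perm (wd y)) fun y z => ?_, fun w hw p => ?_⟩⟩
  · rw [← ev_append]
    refine key _ _ (hwd1 _) (fun s hs => (List.mem_append.1 hs).elim (hwd1 y s) (hwd1 z s)) ?_
    rw [ev_append, hwd2, hwd2, hwd2]
  · show (ev A.perm (wd (ev gH w)) p : ℕ) = _
    rw [key _ _ (hwd1 _) hw (hwd2 _)]
    exact hLw w hw p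

theorem im_lt {A : Act} (hinv : ∀ p < A.N, A.chkInv p = true) {s p : ℕ} (hs : s < A.n) (hp : p < A.N) :
    A.im p s < A.N := by
  have := List.all_eq_true.1 (hinv p hp) s (List.mem_range.2 hs)
  rw [force_eq, Bool.and_eq_true] at this
  exact Nat.le_of_ble_eq_true this.1

theorem go_lt {A : Act} (hinv : ∀ p < A.N, A.chkInv p = true) :
    ∀ {w : List ℕ}, (∀ s ∈ w, s < A.n) → ∀ {p : ℕ}, p < A.N → A.go w p < A.N
  | [], _, _, hp => hp
  | s :: w, hw, p, hp => by
    rw [Act.go_cons]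
    exact im_lt hinv (hw s (List.mem_cons_self ..)) (go_lt hinv (fun t ht => hw t (List.mem_cons_of_mem _ ht)) hp)

/-! ### The points -/

theorem embT_facts {p : ℕ} (hp : p < 1365) : embT.at p < 1782 ∧ kindT.at (embT.at p) = p + 2 ∧
    ∀ s < 6, embT.at (hexA.im p s) = Cos.Suz.actA.im (embT.at p) s := by
  have h := emb_ok p hp
  simp only [chkEmb, force_eq, Bool.and_eq_true, List.all_eq_true, List.mem_range] at h
  exact ⟨Nat.le_of_ble_eq_true h.1.1, Nat.eq_of_beq_eq_true h.1.2, fun s hs => Nat.eq_of_beq_eq_true (h.2 s hs)⟩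

/-- The vertex of a point. -/
noncomputable def emb (p : Fin hexA.N) : V := ⟨embT.at p, (embT_facts p.2).1⟩

theorem kind_emb (p : Fin hexA.N) : kindT.at (emb p) = (p : ℕ) + 2 := (embT_facts p.2).2.1

theorem emb_injective : Function.Injective emb := fun p q e => Fin.ext (by
  have h := kind_emb p; rw [e, kind_emb] at h; omega)

theorem emb_go : ∀ {w : List ℕ}, (∀ s ∈ w, s < 6) → ∀ {p : ℕ}, p < 1365 →
    embT.at (hexA.go w p) = Cos.Suz.actA.go w (embT.at p)
  | [], _, _, _ => rfl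
  | s :: w, hw, p, hp => by
    have hw' : ∀ t ∈ w, t < 6 := fun t ht => hw t (List.mem_cons_of_mem _ ht)
    rw [Act.go_cons, Act.go_cons, ← emb_go hw' hp]
    exact (embT_facts (go_lt (A := hexA) hexInv_ok hw' hp)).2.2 s (hw s (List.mem_cons_self ..))

theorem exists_hexHom : Nonempty (SideHom hexA) := by
  refine exists_sideHom hexA hexInv_ok rfl fun w hw e p hp => ?_
  have h1 := emb_go hw hp
  rw [show embT.at p = (emb ⟨p, hp⟩ : ℕ) from rfl, ← piV_ev hw, e, map_one] at h1
  exact congrArg Fin.val (emb_injective (a₁ := ⟨hexA.go w p, go_lt (A := hexA) hexInv_ok hw hp⟩) (a₂ := ⟨p, hp⟩)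
    (Fin.ext h1))

/-- The action on the points. -/
noncomputable def hexH : SideHom hexA := exists_hexHom.some

theorem piV_emb (y : H0) (p : Fin hexA.N) : piV y (emb p) = emb (hexH.θ y p) := by
  obtain ⟨w, hw, rfl⟩ := exists_word y
  refine Fin.ext ((piV_ev hw _).trans ?_)
  show _ = embT.at (hexH.θ (ev gH w) p : ℕ)
  rw [hexH.spec w hw, emb_go hw p.2]
  rfl

/-! ### The lines -/

theorem linePts_lt {k : ℕ} (hk : k < 1365) : ∀ p ∈ linePts k, p < 1365 := by
  have h := line_ok k hk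
  simp only [chkLine, force_eq, Bool.and_eq_true, List.all_eq_true] at h
  exact fun p hp => Nat.le_of_ble_eq_true (h.1.1 p hp)

theorem lineMask_lt : ∀ {i j : ℕ}, i < j → j < 1365 → maskOf (linePts i) < maskOf (linePts j) := by
  intro i j hij
  induction hij with
  | refl =>
    intro hj
    have h := line_ok i (by omega)
    simp only [chkLine, force_eq, Bool.and_eq_true, Bool.or_eq_true] at h
    rcases h.1.2 with h' | h'
    · have := Nat.eq_of_beq_eq_true h'; omega
    · exact Nat.le_of_ble_eq_true h'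
  | @step m _ ih =>
    intro hj
    have h := line_ok m (by omega)
    simp only [chkLine, force_eq, Bool.and_eq_true, Bool.or_eq_true] at h
    rcases h.1.2 with h' | h'
    · have := Nat.eq_of_beq_eq_true h'; omega
    · exact lt_trans (ih (by omega)) (Nat.le_of_ble_eq_true h')

theorem linePts_injective {i j : ℕ} (hi : i < 1365) (hj : j < 1365) (h : maskOf (linePts i) = maskOf (linePts j)) :
    i = j := by
  rcases Nat.lt_trichotomy i j with hlt | heq | hgt
  · exact absurd h (lineMask_lt hlt hj).ne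
  · exact heq
  · exact absurd h (lineMask_lt hgt hi).ne'

theorem line_go : ∀ {w : List ℕ}, (∀ s ∈ w, s < 6) → ∀ {k : ℕ}, k < 1365 →
    maskOf (linePts (lineA.go w k)) = maskOf ((linePts k).map fun p => hexA.go w p)
  | [], _, k, _ => by simp [Act.go_nil]
  | s :: w, hw, k, hk => by
    have hw' : ∀ t ∈ w, t < 6 := fun t ht => hw t (List.mem_cons_of_mem _ ht)
    have hlt : lineA.go w k < 1365 := go_lt (A := lineA) lineInv_ok hw' hk
    have h := line_ok _ hlt
    simp only [chkLine, force_eq, Bool.and_eq_true, List.all_eq_true, List.mem_range] at h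
    have h2 := Nat.eq_of_beq_eq_true (h.2 s (hw s (List.mem_cons_self ..)))
    have ih := maskOf_eq.1 (line_go hw' hk)
    rw [Act.go_cons, ← h2, maskOf_eq]
    intro q
    simp only [List.mem_map] at ih ⊢
    constructor
    · rintro ⟨p, hp, rfl⟩
      obtain ⟨r, hr, rfl⟩ := (ih p).1 hp
      exact ⟨r, hr, Act.go_cons ..⟩
    · rintro ⟨r, hr, rfl⟩
      exact ⟨hexA.go w r, (ih _).2 ⟨r, hr, rfl⟩, (Act.go_cons ..).symm⟩

theorem exists_lineHom : Nonempty (SideHom lineA) := by
  refine exists_sideHom lineA lineInv_ok rfl fun w hw e k hk => ?_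
  refine linePts_injective (go_lt (A := lineA) lineInv_ok hw hk) hk ?_
  rw [line_go hw hk, maskOf_eq]
  have hfix : ∀ p ∈ linePts k, hexA.go w p = p := fun p hp => by
    have h := hexH.spec w hw ⟨p, linePts_lt hk p hp⟩
    rw [e, map_one] at h
    exact h.symm
  intro q
  rw [List.map_congr_left hfix, List.map_id']

/-- The action on the lines. -/
noncomputable def lineH : SideHom lineA := exists_lineHom.some

end Cfsg.Agent.Spor.SuzRec
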