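import Cfsg.Agent.Lib.Spor.SuzRec.SideFacts

/-! The sets kept by the five-group and meeting every twenty collinear points in ten or three points. -/

set_option autoImplicit false
set_option maxRecDepth 100000

open Cfsg.Agent.Spor.Cos Finset

namespace Cfsg.Agent.Spor.SuzRec

theorem bit_zero (p : ℕ) : bit 0 p = false := by rw [bit_eq, Nat.zero_testBit]

theorem bit_ins (v m p : ℕ) : bit (Nat.lor (1 <<< v) m) p = (decide (v = p) || bit m p) := by
  rw [bit_eq, bit_eq, show Nat.lor (1 <<< v) m = 1 <<< v ||| m from rfl, Nat.testBit_or, Nat.one_shiftLeft,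
    Nat.testBit_two_pow]

/-- A search tree finds every solution. -/
theorem search_sound {eqs : List (List ℕ)} (val : ℕ → Prop) [DecidablePred val] {sol : Option ℕ}
    (hlen : ∀ i < eqs.length, (eqs.getD i []).length = 20)
    (heq : ∀ i < eqs.length, ((eqs.getD i []).filter fun j => decide (val j)).length = if val i then 10 else 3) :
    ∀ (t : STree) (ones zeros : ℕ), chkSearch eqs sol t ones zeros = true → (∀ j, bit ones j = true → val j) →
      (∀ j, bit zeros j = true → ¬ val j) → ∃ s, sol = some s ∧ ∀ j < 57, val j ↔ bit s j = true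
  | .bad i, ones, zeros, hc, ho, hz => by
    have hc' : (Nat.blt i eqs.length && badB (eqs.getD i []) i ones zeros) = true := hc
    simp only [badB, force_eq, Bool.and_eq_true, Bool.or_eq_true] at hc'
    obtain ⟨hi, h1, h2⟩ := hc'
    have hi' : i < eqs.length := Nat.le_of_ble_eq_true hi
    have he := heq i hi'
    have hl := hlen i hi'
    generalize eqs.getD i [] = e at he hl h1 h2
    have hlo : (e.filter fun j => bit ones j).length ≤ (e.filter fun j => decide (val j)).length :=
      (List.monotone_filter_right e fun j hj => decide_eq_true (ho j hj)).length_le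
    have hhi : (e.filter fun j => bit zeros j).length ≤ (e.filter fun j => !decide (val j)).length :=
      (List.monotone_filter_right e fun j hj => by simp [hz j hj]).length_le
    have hsum : (e.filter fun j => decide (val j)).length + (e.filter fun j => !decide (val j)).length = 20 := by
      rw [← List.countP_eq_length_filter, ← List.countP_eq_length_filter]
      have := List.length_eq_countP_add_countP (fun j => decide (val j)) (l := e)
      simp only [decide_eq_true_eq] at this
      rw [← hl, this]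
      congr 1
      exact List.countP_congr fun j _ => by simp
    exfalso
    by_cases hv : val i
    · rw [if_pos hv] at he
      rcases h1 with (h1 | h1) | h1
      · exact hz i h1 hv
      · have : 10 < (e.filter fun j => bit ones j).length := Nat.le_of_ble_eq_true h1
        omega
      · have : 10 < (e.filter fun j => bit zeros j).length := Nat.le_of_ble_eq_true h1
        omega
    · rw [if_neg hv] at he
      rcases h2 with (h2 | h2) | h2
      · exact hv (ho i h2)
      · have : 3 < (e.filter fun j => bit ones j).length := Nat.le_of_ble_eq_true h2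
        omega
      · have : 17 < (e.filter fun j => bit zeros j).length := Nat.le_of_ble_eq_true h2
        omega
  | .sol, ones, zeros, hc, ho, hz => by
    cases sol with
    | none =>
      have hc' : false = true := hc
      exact absurd hc' Bool.false_ne_true
    | some s =>
      have hc' : (Nat.beq ones s && Nat.beq (Nat.lor ones zeros) (2 ^ 57 - 1)) = true := hc
      rw [Bool.and_eq_true] at hc'
      refine ⟨s, rfl, fun j hj => ?_⟩
      have e := Nat.eq_of_beq_eq_true hc'.1
      constructor
      · intro hv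
        have h2 : bit (Nat.lor ones zeros) j = true := by
          rw [Nat.eq_of_beq_eq_true hc'.2, bit_eq, Nat.testBit_two_pow_sub_one]
          exact decide_eq_true hj
        rw [bit_eq, show Nat.lor ones zeros = ones ||| zeros from rfl, Nat.testBit_or, Bool.or_eq_true] at h2
        rcases h2 with h2 | h2
        · rw [← e, bit_eq]; exact h2
        · exact absurd hv (hz j (by rw [bit_eq]; exact h2))
      · intro h2
        exact ho j (by rw [e]; exact h2)
  | .node v tl tr, ones, zeros, hc, ho, hz => by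
    have hc' : (Nat.blt v 57 && force (Nat.lor (1 <<< v) zeros) (fun z => chkSearch eqs sol tl ones z) &&
        force (Nat.lor (1 <<< v) ones) (fun o => chkSearch eqs sol tr o zeros)) = true := hc
    rw [force_eq, force_eq, Bool.and_eq_true, Bool.and_eq_true] at hc'
    by_cases hv : val v
    · refine search_sound val hlen heq tr _ _ hc'.2 (fun j hj => ?_) hz
      rw [bit_ins, Bool.or_eq_true, decide_eq_true_eq] at hj
      rcases hj with rfl | hj
      exacts [hv, ho j hj]
    · refine search_sound val hlen heq tl _ _ hc'.1.2 ho (fun j hj => ?_)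
      rw [bit_ins, Bool.or_eq_true, decide_eq_true_eq] at hj
      rcases hj with rfl | hj
      exacts [hv, hz j hj]

variable {S : Side}

/-- The parts of the check of the orbits of the five-group. -/
structure OrbParts (S : Side) : Prop where
  letters : Act.lettersOk 6 pW = true
  len : S.orbs.length = 57
  trees : ∀ o ∈ S.orbs, chkTree S.A pW o = true
  cover : maskOf (S.orbs.flatMap ptsOf) = fullMask
  eqLen : S.eqs.length = 57
  repLen : S.repW.length = 57
  repLt : Act.lettersOk 6 S.repW = true
  rep : ∀ i < 57, S.A.go (S.repW.getD i []) S.root = (S.orbs.getD i (0, [])).1 ∧ (S.eqs.getD i []).length = 20 ∧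
    ∀ k < 20, (S.eqs.getD i []).getD k 0 < 57 ∧
      S.A.go (S.repW.getD i []) (S.A.go (S.clW.getD k []) S.root) ∈
        ptsOf (S.orbs.getD ((S.eqs.getD i []).getD k 0) (0, []))

theorem orbParts (h : chkOrbs S = true) : OrbParts S := by
  simp only [chkOrbs, force_eq, Bool.and_eq_true, List.all_eq_true, List.mem_range] at h
  obtain ⟨⟨⟨⟨⟨⟨⟨h1, h2⟩, h3⟩, h4⟩, h5⟩, h6⟩, h7⟩, h8⟩ := h
  refine ⟨h1, Nat.eq_of_beq_eq_true h2, h3, Nat.eq_of_beq_eq_true h4, Nat.eq_of_beq_eq_true h5,
    Nat.eq_of_beq_eq_true h6, h7, fun i hi => ?_⟩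
  obtain ⟨⟨a1, a2⟩, a3⟩ := h8 i hi
  exact ⟨Nat.eq_of_beq_eq_true a1, Nat.eq_of_beq_eq_true a2,
    fun k hk => ⟨Nat.le_of_ble_eq_true (a3 k hk).1, bit_maskOf.1 (a3 k hk).2⟩⟩

/-- The five-group's generators. -/
noncomputable def fiveGens : List H0 := [ev gH aW, ev gH bW]

theorem ev_mem_fiveGens {w : List ℕ} (hw : w ∈ pW) : ev gH w ∈ fiveGens := by
  simp only [pW, List.mem_cons, List.not_mem_nil, or_false] at hw
  rcases hw with rfl | rfl <;> simp [fiveGens]

/-- The value of a set on the orbits decides it. -/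
theorem SideOk.orbit_val (h : SideOk S) (Rp : Fin S.A.N → Prop) (hinv : ∀ y ∈ fiveGens, ∀ p, Rp (h.H.θ y p) ↔ Rp p)
    (p : Fin S.A.N) {i : ℕ} (hi : i < 57) (hp : (p : ℕ) ∈ ptsOf (S.orbs.getD i (0, []))) :
    Rp p ↔ ∃ hlt : (S.orbs.getD i (0, [])).1 < S.A.N, Rp ⟨_, hlt⟩ := by
  have ho := orbParts h.orbs
  have hm : S.orbs.getD i (0, []) ∈ S.orbs := by
    rw [List.getD_eq_getElem _ _ (by rw [ho.len]; exact hi)]; exact List.getElem_mem _
  have hlt := tree_lt (ho.trees _ hm) (List.mem_cons_self ..)
  refine Iff.trans ?_ ⟨fun hr => ⟨hlt, hr⟩, fun ⟨_, hr⟩ => hr⟩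
  exact h.tree_prop (ho.trees _ hm) (fun q => Rp q ↔ Rp ⟨_, hlt⟩)
    (fun w hw q hq => (hinv _ (ev_mem_fiveGens hw) q).trans hq) hlt Iff.rfl p hp

theorem SideOk.orbit_exists (h : SideOk S) (p : Fin S.A.N) : ∃ i < 57, (p : ℕ) ∈ ptsOf (S.orbs.getD i (0, [])) := by
  have ho := orbParts h.orbs
  have hp : (p : ℕ) ∈ S.orbs.flatMap ptsOf := by
    rw [← bit_maskOf, ho.cover, fullMask_bit]; exact h.hN ▸ p.2
  obtain ⟨o, hm, hpo⟩ := List.mem_flatMap.1 hp
  obtain ⟨i, hi, rfl⟩ := List.getElem_of_mem hm
  exact ⟨i, ho.len ▸ hi, by rw [List.getD_eq_getElem _ _ hi]; exact hpo⟩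

/-- A set kept by the five-group meeting the collinear points in ten or three points is the solution. -/
theorem SideOk.search (h : SideOk S) {sol : Option ℕ} (hs : chkSearch S.eqs sol S.cert 0 0 = true)
    (Rp : Fin S.A.N → Prop) [DecidablePred Rp]
    (hinv : ∀ y ∈ fiveGens, ∀ p, Rp (h.H.θ y p) ↔ Rp p)
    (hten : ∀ y : H0, #(univ.filter fun k : Fin 20 => Rp (h.H.θ y (h.cp k))) =
      if Rp (h.H.θ y h.o) then 10 else 3) :
    ∃ s, sol = some s ∧ ∀ (p : Fin S.A.N) (i : ℕ), i < 57 → (p : ℕ) ∈ ptsOf (S.orbs.getD i (0, [])) →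
      (Rp p ↔ bit s i = true) := by
  classical
  have ho := orbParts h.orbs
  let val : ℕ → Prop := fun i => ∃ hlt : (S.orbs.getD i (0, [])).1 < S.A.N, Rp ⟨_, hlt⟩
  have hcl : ∀ i < S.eqs.length,
      ((S.eqs.getD i []).filter fun j => decide (val j)).length = if val i then 10 else 3 := by
    intro i hi
    rw [ho.eqLen] at hi
    obtain ⟨hr, hl, hk⟩ := ho.rep i hi
    set y := ev gH (S.repW.getD i [])
    have hlt : ∀ s ∈ S.repW.getD i [], s < 6 :=
      Act.lt_of_lettersOk ho.repLt (getD_mem (by rw [ho.repLen]; exact hi))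
    have hy : ∀ q, (h.H.θ y q : ℕ) = S.A.go (S.repW.getD i []) q := fun q => h.H.spec _ hlt q
    have hvi : val i ↔ Rp (h.H.θ y h.o) :=
      (h.orbit_val Rp hinv _ hi (by rw [hy]; exact hr ▸ List.mem_cons_self ..)).symm
    have hvk : ∀ k : Fin 20, val ((S.eqs.getD i []).getD k 0) ↔ Rp (h.H.θ y (h.cp k)) := fun k =>
      (h.orbit_val Rp hinv _ (hk k k.2).1 (by rw [hy, h.cp_val]; exact (hk k k.2).2)).symm
    rw [if_congr hvi rfl rfl, ← hten y]
    have e : S.eqs.getD i [] = (List.finRange 20).map fun k : Fin 20 => (S.eqs.getD i []).getD k 0 := by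
      refine List.ext_getElem (by rw [hl, List.length_map, List.length_finRange]) fun n h1 h2 => ?_
      rw [List.getElem_map, List.getElem_finRange]
      exact (List.getD_eq_getElem _ _ h1).symm
    conv_lhs => rw [e]
    rw [List.filter_map, List.length_map, ← List.toFinset_card_of_nodup ((List.nodup_finRange 20).filter _)]
    congr 1
    ext k
    simp only [List.mem_toFinset, List.mem_filter, List.mem_finRange, true_and, mem_filter, mem_univ,
      Function.comp_apply, decide_eq_true_eq]
    exact hvk k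
  obtain ⟨s, hsol, hs'⟩ := search_sound val (fun i hi => (ho.rep i (ho.eqLen ▸ hi)).2.1) hcl S.cert 0 0 hs
    (fun j hj => by rw [bit_zero] at hj; cases hj) (fun j hj => by rw [bit_zero] at hj; cases hj)
  exact ⟨s, hsol, fun p i hi hp => (h.orbit_val Rp hinv p hi hp).trans (hs' i hi)⟩

/-- The invariant set of points. -/
def InR (p : Fin hexA.N) : Prop := bit setR p = true

noncomputable instance : DecidablePred InR := fun _ => Classical.propDecidable _

theorem setR_parts : (∀ (p : Fin hexA.N) (i : ℕ), i < 57 → (p : ℕ) ∈ ptsOf (hexOrbs.getD i (0, [])) →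
      (InR p ↔ bit solBits i = true)) ∧
    (∀ s < 5, ∀ p : Fin hexA.N, InR p → InR (hexH.θ (gH s) p)) ∧
    ∃ p : Fin hexA.N, InR p ∧ ¬ InR (hexH.θ (gH 5) p) := by
  have h := setR_ok
  simp only [chkSetR, Bool.and_eq_true, List.all_eq_true, List.mem_range, List.any_eq_true, Bool.not_eq_true'] at h
  obtain ⟨⟨h1, h2⟩, q, hq, hq1, hq2⟩ := h
  have hgo : ∀ s < 6, ∀ p : Fin hexA.N, (hexH.θ (gH s) p : ℕ) = hexA.im p s := by
    intro s hs p
    have := hexH.spec [s] (by simpa using hs) p
    rwa [show ev gH [s] = gH s from mul_one _, Act.go_cons, Act.go_nil] at this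
  refine ⟨fun p i hi hp => ?_, fun s hs p hp => ?_, ⟨q, hq⟩, hq1, fun hc => ?_⟩
  · have h' := h1 i hi p hp
    show bit setR p = true ↔ _
    cases e : bit solBits i
    · rw [e, Bool.cond_false, Bool.not_eq_true'] at h'
      simp [h']
    · rw [e, Bool.cond_true] at h'
      simp [h']
  · have h' := h2 s hs p p.2
    rw [show bit setR p = true from hp, Bool.cond_true] at h'
    show bit setR (hexH.θ (gH s) p : ℕ) = true
    rw [hgo s (by omega)]
    exact h'
  · have hc' : bit setR (hexH.θ (gH 5) ⟨q, hq⟩ : ℕ) = true := hc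
    rw [hgo 5 (by omega)] at hc'
    exact Bool.false_ne_true (hq2.symm.trans hc')

/-- Among the points the solution is the invariant set. -/
theorem hex_search (Rp : Fin hexS.A.N → Prop) [DecidablePred Rp] (hinv : ∀ y ∈ fiveGens, ∀ p, Rp (hexOk.H.θ y p) ↔ Rp p)
    (hten : ∀ y : H0, #(univ.filter fun k : Fin 20 => Rp (hexOk.H.θ y (hexOk.cp k))) =
      if Rp (hexOk.H.θ y hexOk.o) then 10 else 3) (p : Fin hexS.A.N) : Rp p ↔ InR p := by
  obtain ⟨s, e, hs⟩ := hexOk.search hexSearch_ok Rp hinv hten
  obtain ⟨i, hi, hp⟩ := hexOk.orbit_exists p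
  rw [setR_parts.1 p i hi hp, hs p i hi hp, Option.some.inj e]

/-- Among the lines there is no solution. -/
theorem line_search (Rp : Fin lineS.A.N → Prop) [DecidablePred Rp]
    (hinv : ∀ y ∈ fiveGens, ∀ p, Rp (lineOk.H.θ y p) ↔ Rp p)
    (hten : ∀ y : H0, #(univ.filter fun k : Fin 20 => Rp (lineOk.H.θ y (lineOk.cp k))) =
      if Rp (lineOk.H.θ y lineOk.o) then 10 else 3) : False := by
  obtain ⟨s, e, -⟩ := lineOk.search lineSearch_ok Rp hinv hten
  cases e

end Cfsg.Agent.Spor.SuzRec
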