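import Cfsg.Agent.Lib.Spor.SuzRec.Conj
import Cfsg.Agent.Lib.Spor.SuzRec.Search

/-! The five-group, `J₂` and the orbits of the point stabiliser of the Suzuki group on the vertices. -/

set_option autoImplicit false
set_option maxRecDepth 100000

open Cfsg.Agent.Spor.Cos Finset

namespace Cfsg.Agent.Spor.SuzRec

open Fus.GTwoJ2 (oAll oSmall oBig oAll_ok oSmall_ok oBig_ok oAll_closed oSmall_closed oBig_closed)

/-- The base vertex. -/
noncomputable def v0 : V := Cos.Suz.baseA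

/-- The vertex fixed by `J₂`. -/
noncomputable def u0 : V := Fus.GTwoJ2.p0

theorem piV_v0 (y : H0) : piV y v0 = v0 := by
  have h := (SetLike.ext_iff.1 Cos.Suz.stabA (y : Cfsg.Spor.Suz)).1 y.2
  exact mem_stab.1 h

/-- `J₂`. -/
noncomputable def J : Subgroup H0 := Fus.GTwoJ2.H2.subgroupOf Fus.GTwoJ2.K1

theorem mem_J {y : H0} : y ∈ J ↔ piV y u0 = u0 := by
  show (y : Cfsg.Spor.Suz) ∈ Fus.GTwoJ2.H2 ↔ _
  rw [← Fus.GTwoJ2.stab_inf]
  exact ⟨fun h => h.2, fun h => ⟨y.2, h⟩⟩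

theorem card_J : Nat.card J = 604800 := by
  rw [← Fus.GTwoJ2.card_H2]
  exact Nat.card_congr (Subgroup.subgroupOfEquivOfLe Fus.GTwoJ2.H2_le).toEquiv

theorem coatom_J : IsCoatom J := Fus.GTwoJ2.coatom_H2

theorem lv2_letters : ∀ w ∈ Cos.Suz.lv2W, ∀ s ∈ w, s < 6 :=
  fun w hw => Act.lt_of_lettersOk (n := 6) (by decide +kernel) hw

theorem J_induction (P : H0 → Prop) (h1 : P 1) (hs : ∀ s < 5, ∀ y, P y → P (gH s * y)) : ∀ y ∈ J, P y := by
  intro y hy
  have key : ∀ z ∈ Fus.GTwoJ2.H2, ∃ w : List ℕ, (∀ s ∈ w, s < 5) ∧ ev Cos.Suz.g w = z := by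
    intro z hz
    induction hz using Subgroup.closure_induction with
    | mem z hz =>
      obtain ⟨w, hw, rfl⟩ := hz
      exact ⟨w, fun s hs => Act.lt_of_lettersOk (n := 5) (by decide +kernel) hw s hs, rfl⟩
    | one => exact ⟨[], by simp, rfl⟩
    | mul a b _ _ ha hb =>
      obtain ⟨v, hv, rfl⟩ := ha
      obtain ⟨w, hw, rfl⟩ := hb
      exact ⟨v ++ w, fun s hs => (List.mem_append.1 hs).elim (hv s) (hw s), ev_append _ v w⟩
    | inv a _ ha =>
      obtain ⟨v, hv, rfl⟩ := ha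
      exact ⟨v.reverse, fun s hs => hv s (List.mem_reverse.1 hs),
        ev_reverse (n := 5) (fun s _ => Cos.Suz.g_sq s) v hv⟩
  obtain ⟨w, hw, e⟩ := key _ hy
  have e' : ev gH w = y := Subtype.ext ((ev_gH_val fun s hs => (hw s hs).trans (by norm_num)).trans e)
  rw [← e']
  clear e e' key
  induction w with
  | nil => exact h1
  | cons s w ih => exact hs s (hw s (List.mem_cons_self ..)) _ (ih fun t ht => hw t (List.mem_cons_of_mem _ ht))

theorem J_fix_R {y : H0} (hy : y ∈ J) : ∀ p : Fin hexA.N, InR p → InR (hexH.θ y p) := by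
  refine J_induction (fun y => ∀ p : Fin hexA.N, InR p → InR (hexH.θ y p)) (fun p hp => by rw [map_one]; exact hp)
    (fun s hs y ih p hp => ?_) y hy
  rw [map_mul, Equiv.Perm.mul_apply]
  exact setR_parts.2.1 s hs _ (ih p hp)

theorem R_inv {y : H0} (hy : y ∈ J) (p : Fin hexA.N) : InR (hexH.θ y p) ↔ InR p := by
  refine ⟨fun hp => ?_, J_fix_R hy p⟩
  have := J_fix_R (inv_mem hy) _ hp
  rwa [map_inv, show (hexH.θ y)⁻¹ (hexH.θ y p) = p from (hexH.θ y).symm_apply_apply p] at this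

/-- The stabiliser of the invariant set of points. -/
def stR : Subgroup H0 where
  carrier := {y | ∀ p, InR (hexH.θ y p) ↔ InR p}
  one_mem' := fun p => by rw [map_one]; rfl
  mul_mem' := fun {x y} hx hy p => by rw [map_mul, Equiv.Perm.mul_apply]; exact (hx _).trans (hy p)
  inv_mem' := fun {x} hx p => by
    rw [map_inv]
    exact ((hx _).symm).trans (iff_of_eq (congrArg InR ((hexH.θ x).apply_symm_apply p)))

theorem stR_eq : stR = J := by
  have hle : J ≤ stR := fun y hy p => R_inv hy p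
  refine (eq_or_lt_of_le hle).elim Eq.symm fun hlt => ?_
  exfalso
  have htop := coatom_J.2 _ hlt
  obtain ⟨p, hp, hn⟩ := setR_parts.2.2
  exact hn (((htop ▸ Subgroup.mem_top _ : gH 5 ∈ stR) p).2 hp)

/-- The five-group. -/
noncomputable def Q5 : Subgroup H0 := Subgroup.closure {y | y ∈ fiveGens}

theorem five_facts : (∀ y ∈ fiveGens, y ^ 5 = 1 ∧ y ∈ J) ∧ Commute (ev gH aW) (ev gH bW) := by
  have h := five_ok
  simp only [chkFive, Bool.and_eq_true, List.all_eq_true] at h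
  obtain ⟨⟨hl, hp⟩, hc⟩ := h
  have hlt : ∀ w ∈ pW, ∀ s ∈ w, s < 5 := fun w hw => Act.lt_of_lettersOk hl hw
  have hlt7 : ∀ w ∈ pW, ∀ s ∈ w, s < Cos.Suz.actA.n := fun w hw s hs => lt_trans (hlt w hw s hs) (by decide)
  have hlt6 : ∀ w ∈ pW, ∀ s ∈ w, s < 6 := fun w hw s hs => lt_trans (hlt w hw s hs) (by decide)
  constructor
  · intro y hy
    obtain ⟨w, hw, rfl⟩ : ∃ w ∈ pW, ev gH w = y := by
      simp only [fiveGens, List.mem_cons, List.not_mem_nil, or_false] at hy
      rcases hy with rfl | rfl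
      · exact ⟨aW, by simp [pW], rfl⟩
      · exact ⟨bW, by simp [pW], rfl⟩
    refine ⟨Subtype.ext ?_, ?_⟩
    · rw [Subgroup.coe_pow, ev_gH_val (hlt6 w hw)]
      exact pow_eq_one Cos.Suz.homA Cos.Suz.det (hlt7 w hw) (hp w hw)
    · refine ev_mem (g := gH) w fun s hs => ?_
      show (gH s : Cfsg.Spor.Suz) ∈ Fus.GTwoJ2.H2
      rw [gH_val (hlt6 w hw s hs)]
      have : [s] ∈ Cos.Suz.lv2W := (show ∀ t < 5, [t] ∈ Cos.Suz.lv2W by decide +kernel) s (hlt w hw s hs)
      have h' := mem_val (g := Cos.Suz.g) this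
      rwa [ev, ev, mul_one] at h'
  · have ha : ∀ s ∈ aW, s < 6 := hlt6 aW (by simp [pW])
    have hb : ∀ s ∈ bW, s < 6 := hlt6 bW (by simp [pW])
    have hab : ∀ s ∈ aW ++ bW, s < 6 := fun s hs => (List.mem_append.1 hs).elim (ha s) (hb s)
    have hba : ∀ s ∈ bW ++ aW, s < 6 := fun s hs => (List.mem_append.1 hs).elim (hb s) (ha s)
    show ev gH aW * ev gH bW = ev gH bW * ev gH aW
    rw [← ev_append, ← ev_append]
    refine Subtype.ext ?_
    have key : ∀ q : V, (q : ℕ) ∈ [0, 1781, 135, 1461, 46, 1] →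
        piV (ev gH (aW ++ bW)) q = piV (ev gH (bW ++ aW)) q := fun q hq => Fin.ext (by
      rw [piV_ev hab, piV_ev hba, Nat.eq_of_beq_eq_true (hc q hq)])
    refine (inv_mul_eq_one.1 (Cos.Suz.det _ fun q hq => ?_)).symm
    show piV ((ev gH (bW ++ aW))⁻¹ * ev gH (aW ++ bW)) q = q
    rw [map_mul, map_inv, Equiv.Perm.mul_apply, key q hq]
    exact (piV (ev gH (bW ++ aW))).symm_apply_apply q

theorem Q5_le : Q5 ≤ J := (Subgroup.closure_le _).2 fun y hy => (five_facts.1 y hy).2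

theorem isPGroup_Q5 : IsPGroup 5 Q5 := by
  obtain ⟨h5, hcom⟩ := five_facts
  let K : Subgroup H0 :=
    { carrier := {y | y ^ 5 = 1 ∧ Commute y (ev gH aW) ∧ Commute y (ev gH bW) ∧ ∀ z, Commute z (ev gH aW) →
        Commute z (ev gH bW) → Commute y z}
      one_mem' := ⟨one_pow 5, Commute.one_left _, Commute.one_left _, fun z _ _ => Commute.one_left z⟩
      mul_mem' := fun {x y} hx hy => ⟨by rw [(hx.2.2.2 y hy.2.1 hy.2.2.1).mul_pow, hx.1, hy.1, one_mul],
        hx.2.1.mul_left hy.2.1, hx.2.2.1.mul_left hy.2.2.1, fun z h1 h2 => (hx.2.2.2 z h1 h2).mul_left (hy.2.2.2 z h1 h2)⟩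
      inv_mem' := fun {x} hx => ⟨by rw [inv_pow, hx.1, inv_one], hx.2.1.inv_left, hx.2.2.1.inv_left,
        fun z h1 h2 => (hx.2.2.2 z h1 h2).inv_left⟩ }
  have hle : Q5 ≤ K := (Subgroup.closure_le _).2 fun y hy => by
    refine ⟨(h5 y hy).1, ?_⟩
    simp only [fiveGens, List.mem_cons, List.not_mem_nil, or_false, Set.mem_ofPred_eq] at hy
    rcases hy with rfl | rfl
    · exact ⟨Commute.refl _, hcom, fun z h1 _ => h1.symm⟩
    · exact ⟨hcom.symm, Commute.refl _, fun z _ h2 => h2.symm⟩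
  exact fun g => ⟨1, by rw [pow_one]; exact Subtype.ext (hle g.2).1⟩

theorem kind_cases (v : V) :
    (v = v0 ∧ kindT.at v = 0) ∨ (oAll.mem v = true ∧ kindT.at v = 1) ∨ ∃ p, emb p = v := by
  have h := kind_ok v v.2
  simp only [chkKind, force_eq, Bool.and_eq_true, Bool.or_eq_true] at h
  rcases h with (⟨h1, h2⟩ | ⟨h1, h2⟩) | ⟨⟨h1, h2⟩, h3⟩
  · exact Or.inl ⟨Fin.ext ((Nat.eq_of_beq_eq_true h2).trans (by rfl)), Nat.eq_of_beq_eq_true h1⟩
  · exact Or.inr (Or.inl ⟨h2, Nat.eq_of_beq_eq_true h1⟩)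
  · have hlt : kindT.at v - 2 < 1365 := by
      have := Nat.le_of_ble_eq_true h1
      have : kindT.at v < 1367 := Nat.le_of_ble_eq_true h2
      omega
    exact Or.inr (Or.inr ⟨⟨_, hlt⟩, Fin.ext (Nat.eq_of_beq_eq_true h3)⟩)

theorem kind_near {v : V} (h : oAll.mem v = true) : kindT.at v = 1 := by
  simp only [Orb.mem, force_eq, Bool.and_eq_true] at h
  have h1 : oAll.pos.at v < 416 := lt_of_lt_of_eq (Nat.le_of_ble_eq_true h.1) (by decide +kernel)
  have h2 := Nat.eq_of_beq_eq_true (kindN_ok _ h1)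
  rwa [Nat.eq_of_beq_eq_true h.2] at h2

theorem kind_v0 : kindT.at v0 = 0 := by decide +kernel

theorem emb_ne_near {p : Fin hexA.N} : oAll.mem (emb p) = false := by
  rw [Bool.eq_false_iff]
  intro h
  have := kind_near h
  rw [kind_emb] at this
  omega

theorem emb_ne_v0 {p : Fin hexA.N} : emb p ≠ v0 := fun e => by
  have := kind_emb p
  rw [e, kind_v0] at this
  omega

theorem near_ne_v0 {v : V} (h : oAll.mem v = true) : v ≠ v0 := fun e => by
  have := kind_near h
  rw [e, kind_v0] at this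
  omega

theorem near_orbit {v : V} (h : oAll.mem v = true) : ∃ y : H0, piV y u0 = v := by
  obtain ⟨z, hz, e⟩ := oAll_ok.mem_orbit Cos.Suz.homA u0 rfl h
  exact ⟨⟨z, hz⟩, e⟩

theorem near_piV (y : H0) {v : V} (h : oAll.mem v = true) : oAll.mem (piV y v) = true := by
  obtain ⟨z, rfl⟩ := near_orbit h
  have : piV y (piV z u0) ∈ {p : V | oAll.mem p = true} := by
    rw [← oAll_ok.orbit_eq oAll_closed Cos.Suz.homA u0 rfl]
    exact ⟨_, (y * z).2, by rw [← Equiv.Perm.mul_apply, ← map_mul]; rfl⟩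
  exact this

theorem near_u0 : oAll.mem u0 = true := by decide +kernel

theorem card_near : #(univ.filter fun v : V => oAll.mem v = true) = 416 := by
  rw [← Set.ncard_coe_finset, show ((univ.filter fun v : V => oAll.mem v = true : Finset V) : Set V) =
    {v : V | oAll.mem v = true} by ext; simp, oAll_ok.ncard_mem]
  decide +kernel

theorem small_cases {v : V} (h : oAll.mem v = true) : v = u0 ∨ oSmall.mem v = true ∨ oBig.mem v = true := by
  by_cases hv : v = u0
  · exact Or.inl hv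
  refine Or.inr ?_
  simp only [Orb.mem, force_eq, Bool.and_eq_true] at h
  have h0 := List.all_eq_true.1 Fus.GTwoJ2.part_all _ (List.mem_range.2 (Nat.le_of_ble_eq_true h.1))
  rw [Nat.eq_of_beq_eq_true h.2] at h0
  simp only [chkPartition, show Nat.beq (v : ℕ) 1781 = false from Bool.eq_false_iff.2 fun e =>
      hv (Fin.ext (Nat.eq_of_beq_eq_true e)), Bool.cond_false] at h0
  have h1 : 0 < Fus.GTwoJ2.pAll.countP fun o => o.1.mem (v : ℕ) := by
    rw [Nat.eq_of_beq_eq_true h0]; exact one_pos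
  obtain ⟨o, ho, hm⟩ := List.countP_pos_iff.1 h1
  simp only [Fus.GTwoJ2.pAll, List.mem_cons, List.not_mem_nil, or_false] at ho
  rcases ho with rfl | rfl
  exacts [Or.inl hm, Or.inr hm]

/-- A set in the near part kept by `J₂` with a hundred points. -/
theorem nbr_near (T : Finset V) (hsub : ∀ v ∈ T, oAll.mem v = true) (hu : u0 ∉ T)
    (hinv : ∀ y ∈ J, ∀ v, v ∈ T → piV y v ∈ T) (hc : #T = 100) {v : V} (hv : oAll.mem v = true) :
    v ∈ T ↔ oSmall.mem v = true := by
  classical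
  have hmove : ∀ {z : Cfsg.Spor.Suz}, z ∈ val Cos.Suz.g Cos.Suz.lv2W → ∀ x, (x ∈ T → Cos.Suz.piA z x ∈ T) := by
    intro z hz x hx
    exact hinv ⟨z, Fus.GTwoJ2.H2_le hz⟩ hz x hx
  have hcls : ∀ {O : Orb} {x : ℕ} (hO : O.Ok Cos.Suz.actA Cos.Suz.lv2W x) {p q : V},
      O.mem p = true → O.mem q = true → p ∈ T → q ∈ T := by
    intro O x hO p q hp hq hpT
    obtain ⟨a, ha, ea⟩ := hO.mem_orbit Cos.Suz.homA ⟨x, hO.root_lt⟩ rfl hp
    obtain ⟨b, hb, eb⟩ := hO.mem_orbit Cos.Suz.homA ⟨x, hO.root_lt⟩ rfl hq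
    have := hmove (mul_mem hb (inv_mem ha)) p hpT
    rwa [map_mul, map_inv, Equiv.Perm.mul_apply, ← ea, Equiv.Perm.inv_def, Equiv.symm_apply_apply, eb] at this
  have hbig : ∀ q : V, oBig.mem q = true → q ∉ T := by
    intro q hq hqT
    have : (univ.filter fun p : V => oBig.mem p = true) ⊆ T := fun p hp =>
      hcls oBig_ok hq (mem_filter.1 hp).2 hqT
    have h1 := card_le_card this
    rw [← Set.ncard_coe_finset, coe_filter_mem oBig, oBig_ok.ncard_mem, show oBig.m = 315 by decide +kernel, hc] at h1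
    omega
  have hsm : T ⊆ univ.filter fun p : V => oSmall.mem p = true := fun p hp => by
    rcases small_cases (hsub p hp) with e | e | e
    · exact absurd hp (e ▸ hu)
    · exact mem_filter.2 ⟨mem_univ _, e⟩
    · exact absurd hp (hbig p e)
  have heq := eq_of_subset_of_card_le hsm (by
    rw [hc, ← Set.ncard_coe_finset, coe_filter_mem oSmall, oSmall_ok.ncard_mem]
    decide +kernel)
  rw [heq]
  simp
where
  coe_filter_mem (O : Orb) : ((univ.filter fun p : V => O.mem p = true : Finset V) : Set V) =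
      {p : V | O.mem p = true} := by ext; simp

end Cfsg.Agent.Spor.SuzRec
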