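import Cfsg.Agent.Lib.Spor.SuzRec.GraphAut
import Cfsg.Agent.Lib.Spor.Cos.Suz.IsSimple

/-!
A rank three group of degree 1782 with point stabiliser `G₂(4)` and suborbits 1, 416, 1365 is the Suzuki group.
-/

set_option autoImplicit false
set_option maxRecDepth 100000
set_option maxHeartbeats 1000000

open Cfsg.Agent.Spor.Cos Finset

namespace Cfsg.Agent.Spor.SuzRec

open Fus.GTwoJ2 (oAll)

/-- The point stabiliser is simple. -/
theorem simple_H0 : IsSimpleGroup H0 := by
  obtain ⟨e⟩ := Fus.SuzG2.iso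
  haveI : IsSimpleGroup Fus.SuzG2.G4 :=
    (Lie.Chev.certFullG2.simple Lie.Chev.connG2
      (Lie.Chev.certFullG2.perfect_odd (F := Fus.SuzG2.K4) Lie.Chev.perfectG2
        ⟨(Cfsg.Agent.Spor.Cos.F4.w : Fus.SuzG2.K4), by decide, by decide⟩)).1
  exact e.isSimpleGroup_congr.2 inferInstance

/-- `G₂(4)` over any field with four elements. -/
theorem equiv_H0 {F : Type*} [Field F] [Fintype F] (hF : Fintype.card F = 4) :
    Nonempty (H0 ≃* Cfsg.Lie.chevG2.group F) := by
  obtain ⟨e0⟩ := Fus.SuzG2.iso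
  have hc : Fintype.card Fus.SuzG2.K4 = Fintype.card F := F4.card_eq.trans hF.symm
  let e : Fus.SuzG2.K4 ≃+* F := FiniteField.ringEquivOfCardEq hc
  let f : Fus.SuzG2.G4 →* Cfsg.Lie.chevG2.group F :=
    ((Matrix.GeneralLinearGroup.map e.toRingHom).comp (Cfsg.Lie.chevG2.group Fus.SuzG2.K4).subtype).codRestrict _
      fun y => Cfsg.Agent.Lie.Chev.certFullG2.mapHom_mem_group e.toRingHom y.2
  have hinj : Function.Injective f := by
    intro a b hab
    refine Subtype.ext (Units.ext (Matrix.ext fun i j => e.injective ?_))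
    exact congrArg (fun z : Cfsg.Lie.chevG2.group F => ((z : GL Cfsg.Lie.chevG2.Idx F) : Matrix _ _ F) i j) hab
  have : Finite (Cfsg.Lie.chevG2.group F) := Nat.finite_of_card_ne_zero (by
    rw [Cfsg.Agent.S1059.result (F := F) hF]; norm_num)
  have hb : Function.Bijective f := hinj.bijective_of_nat_card_le (by
    rw [Fus.SuzG2.card_G4, Cfsg.Agent.S1059.result (F := F) hF]; norm_num)
  exact ⟨e0.trans (MulEquiv.ofBijective f hb)⟩

/-- The Suzuki group as permutations. -/
noncomputable def suzS : Subgroup (Equiv.Perm V) := Cos.Suz.piA.range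

instance : MulAction.IsPretransitive suzS V := by
  refine ⟨fun x y => ?_⟩
  obtain ⟨a, ha⟩ := Cos.Suz.trA x
  obtain ⟨b, hb⟩ := Cos.Suz.trA y
  refine ⟨⟨Cos.Suz.piA (b * a⁻¹), ⟨_, rfl⟩⟩, ?_⟩
  show Cos.Suz.piA (b * a⁻¹) x = y
  rw [map_mul, map_inv, Equiv.Perm.mul_apply, ← ha, Equiv.Perm.inv_def, Equiv.symm_apply_apply, hb]

theorem exists_suz_psi : ∃ ψ : H0 ≃* MulAction.stabilizer suzS v0,
    ∀ y x, (((ψ y : MulAction.stabilizer suzS v0) : suzS) : Equiv.Perm V) x = piV y x := by
  let f : H0 →* MulAction.stabilizer suzS v0 :=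
    { toFun := fun y => ⟨⟨piV y, ⟨(y : Cfsg.Spor.Suz), rfl⟩⟩, piV_v0 y⟩
      map_one' := Subtype.ext (Subtype.ext (map_one piV))
      map_mul' := fun a b => Subtype.ext (Subtype.ext (map_mul piV a b)) }
  have hf : Function.Bijective f := by
    refine ⟨fun a b e => piV_injective (congrArg (fun z : MulAction.stabilizer suzS v0 => (z.1 : Equiv.Perm V)) e),
      ?_⟩
    rintro ⟨⟨π, z, rfl⟩, hz⟩
    refine ⟨⟨z, ?_⟩, rfl⟩
    exact (SetLike.ext_iff.1 Cos.Suz.stabA z).2 (mem_stab.2 hz)
  exact ⟨MulEquiv.ofBijective f hf, fun _ _ => rfl⟩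

/-- The graph of the Suzuki group in standard labels. -/
theorem exists_model : ∃ (E : SimpleGraph V) (σ : Cfsg.Spor.Suz →* Equiv.Perm V),
    Function.Injective σ ∧ Std E piV id ∧ ∀ z, σ z ∈ autE E := by
  classical
  obtain ⟨ψ, hψ⟩ := exists_suz_psi
  have horb : ∀ x z : V, z ∈ MulAction.orbit (MulAction.stabilizer suzS v0) x ↔ ∃ y, piV y x = z := fun x z =>
    ⟨fun ⟨g, hg⟩ => ⟨ψ.symm g, by rw [← hψ, ψ.apply_symm_apply]; exact hg⟩,
      fun ⟨y, hy⟩ => ⟨ψ y, (hψ y x).trans hy⟩⟩
  have hb : (MulAction.orbit (MulAction.stabilizer suzS v0) u0).ncard = 416 := by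
    rw [← card_near, ← Set.ncard_coe_finset]
    congr 1
    ext z
    rw [horb, coe_filter, Set.mem_ofPred_eq]
    constructor
    · rintro ⟨y, rfl⟩; exact ⟨mem_univ _, near_piV y near_u0⟩
    · exact fun hz => near_orbit hz.2
  have hc : (MulAction.orbit (MulAction.stabilizer suzS v0) (emb hexO)).ncard = 1365 := by
    have e : MulAction.orbit (MulAction.stabilizer suzS v0) (emb hexO) = Set.range emb := by
      ext z
      rw [horb]
      constructor
      · rintro ⟨y, rfl⟩; exact ⟨_, (piV_emb y hexO).symm⟩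
      · rintro ⟨p, rfl⟩
        obtain ⟨y, hy⟩ := hexOk.transitive p
        exact ⟨y, (piV_emb y hexO).trans (congrArg emb hy)⟩
    rw [e, Set.ncard_range_of_injective emb_injective, Nat.card_fin]
    rfl
  obtain ⟨Γ, Φ, hinv, hΦ0, hstd⟩ := exists_std (Ω := V) (by rw [Fintype.card_fin]; rfl) suzS v0 ψ u0 (emb hexO) hb hc
  let e : V ≃ V := Equiv.ofBijective Φ hstd.bij
  refine ⟨Γ.comap Φ, e.symm.permCongrHom.toMonoidHom.comp Cos.Suz.piA,
    e.symm.permCongrHom.injective.comp piA_injective, ?_, fun z x x' => ?_⟩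
  · refine ⟨Function.bijective_id, fun y v => rfl, fun y x z => ?_, hstd.base, hstd.near, hstd.mixed, hstd.far⟩
    show Γ.Adj (Φ (piV y x)) (Φ (piV y z)) ↔ Γ.Adj (Φ x) (Φ z)
    rw [hstd.equiv, hstd.equiv, hstd.inv]
  · show Γ.Adj (e (e.symm (Cos.Suz.piA z (e x)))) (e (e.symm (Cos.Suz.piA z (e x')))) ↔ _
    rw [e.apply_symm_apply, e.apply_symm_apply]
    exact hinv ⟨Cos.Suz.piA z, ⟨z, rfl⟩⟩ (e x) (e x')

theorem main {Ω : Type*} [Fintype Ω] [DecidableEq Ω] (hΩ : Fintype.card Ω = 1782) (G : Subgroup (Equiv.Perm Ω))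
    [MulAction.IsPretransitive G Ω] (a : Ω) (ψ : H0 ≃* MulAction.stabilizer G a) (b c : Ω)
    (hb : (MulAction.orbit (MulAction.stabilizer G a) b).ncard = 416)
    (hc : (MulAction.orbit (MulAction.stabilizer G a) c).ncard = 1365) : Cfsg.Spor.IsoSuz G := by
  classical
  obtain ⟨Γ, Φ, hinv, hΦ0, hstd⟩ := exists_std hΩ G a ψ b c hb hc
  obtain ⟨E, σ, hσ, hE, hσA⟩ := exists_model
  have hadj : ∀ x z, Γ.Adj (Φ x) (Φ z) ↔ E.Adj x z := fun x z => hstd.adj_iff hE x z
  let e : V ≃ Ω := Equiv.ofBijective Φ hstd.bij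
  let ρ : G →* Equiv.Perm V := e.symm.permCongrHom.toMonoidHom.comp G.subtype
  have hρ : ∀ (g : G) x, Φ (ρ g x) = g • Φ x := fun g x => by
    show e (e.symm ((g : Equiv.Perm Ω) (e x))) = _
    rw [e.apply_symm_apply]; rfl
  have hρA : ρ.range ≤ autE E := by
    rintro _ ⟨g, rfl⟩ x z
    rw [← hadj, ← hadj, hρ, hρ, hinv]
  have hρinj : Function.Injective ρ := fun g h e' => Subtype.ext (Equiv.ext fun z => by
    obtain ⟨x, rfl⟩ := hstd.bij.2 z
    have := congrArg (fun π : Equiv.Perm V => Φ (π x)) e'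
    simp only [hρ] at this
    exact this)
  set T := σ.range
  have hTA : T ≤ autE E := by rintro _ ⟨z, rfl⟩; exact hσA z
  have hTc : Nat.card T = 448345497600 :=
    (Nat.card_congr (MonoidHom.ofInjective hσ).toEquiv).symm.trans Cos.Suz.card_eq
  set H := MulAction.stabilizer G a
  have hcardH : Nat.card H = 251596800 := (Nat.card_congr ψ.toEquiv).symm.trans card_H0
  have hcardG : Nat.card G = 448345497600 := by
    have h1 := Nat.card_congr (MulAction.orbitProdStabilizerEquivGroup G a)
    rw [Nat.card_prod, MulAction.orbit_eq_univ, Nat.card_coe_set_eq, Set.ncard_univ, Nat.card_eq_fintype_card,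
      hΩ, hcardH] at h1
    omega
  have hidxT : (T.subgroupOf (autE E)).index ≤ 2 := by
    have h := Subgroup.card_mul_index (T.subgroupOf (autE E))
    rw [Nat.card_congr (Subgroup.subgroupOfEquivOfLe hTA).toEquiv, hTc] at h
    have := card_autE hE
    nlinarith
  set N : Subgroup G := T.comap ρ with hN
  have hNidx : N.index ≤ 2 := by
    rw [hN, Subgroup.index_comap]
    refine le_trans ?_ hidxT
    exact Nat.le_of_dvd (Nat.pos_of_ne_zero Subgroup.FiniteIndex.index_ne_zero) (by
      have hn : (T.subgroupOf (autE E)).Normal := by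
        rcases Nat.lt_or_ge (T.subgroupOf (autE E)).index 2 with h1 | h1
        · have h0 : (T.subgroupOf (autE E)).index ≠ 0 := Subgroup.index_ne_zero_of_finite
          have htop : T.subgroupOf (autE E) = ⊤ := Subgroup.index_eq_one.1 (by omega)
          rw [htop]
          infer_instance
        · exact Subgroup.normal_of_index_eq_two (le_antisymm hidxT h1)
      rw [show T.relIndex ρ.range = (T.subgroupOf (autE E)).relIndex (ρ.range.subgroupOf (autE E)) from
        (Subgroup.relIndex_subgroupOf hρA).symm]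
      exact Subgroup.relIndex_dvd_index_of_normal _ _)
  have hNtop : N = ⊤ := by
    have hN0 : N.index ≠ 0 := N.index_ne_zero_of_finite
    rcases Nat.lt_or_ge N.index 2 with h1 | h1
    · exact Subgroup.index_eq_one.1 (by omega)
    exfalso
    have h2 : N.index = 2 := le_antisymm hNidx h1
    have hNn : N.Normal := Subgroup.normal_of_index_eq_two h2
    haveI : IsSimpleGroup H := ψ.symm.isSimpleGroup_congr.2 simple_H0
    have hle : H ≤ N := by
      rcases (hNn.subgroupOf H).eq_bot_or_eq_top with h | h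
      · exfalso
        have h3 : N.relIndex H ∣ N.index := Subgroup.relIndex_dvd_index_of_normal _ _
        rw [Subgroup.relIndex, h, Subgroup.index_bot, hcardH, h2] at h3
        exact absurd (Nat.le_of_dvd (by norm_num) h3) (by norm_num)
      · exact Subgroup.subgroupOf_eq_top.1 h
    -- the orbit of half the vertices
    let O : Set Ω := MulAction.orbit N a
    have hcount : O.ncard * 251596800 = 224172748800 := by
      have h3 := Nat.card_congr (MulAction.orbitProdStabilizerEquivGroup N a)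
      have h4 := Subgroup.card_mul_index N
      rw [h2, hcardG] at h4
      have h5 : Nat.card (MulAction.stabilizer N a) = Nat.card H := Nat.card_congr
        { toFun := fun g => ⟨g.1.1, g.2⟩
          invFun := fun g => ⟨⟨g.1, hle g.2⟩, g.2⟩
          left_inv := fun g => rfl
          right_inv := fun g => rfl }
      rw [Nat.card_prod, Nat.card_coe_set_eq, h5, hcardH] at h3
      show (MulAction.orbit N a).ncard * _ = _
      omega
    have hclosed : ∀ x ∈ O, MulAction.orbit H x ⊆ O := by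
      rintro x hx _ ⟨g, rfl⟩
      obtain ⟨n, rfl⟩ := hx
      exact ⟨⟨g.1, hle g.2⟩ * n, mul_smul _ _ _⟩
    obtain ⟨hab, hcases⟩ := orbit_cases hΩ hb hc
    have haO : a ∈ O := MulAction.mem_orbit_self a
    have h891 : O.ncard = 891 := by omega
    by_cases hcO : c ∈ O
    · have := Set.ncard_le_ncard (hclosed c hcO)
      rw [hc, h891] at this
      omega
    · have hsub : O ⊆ insert a (MulAction.orbit H b) := by
        intro x hx
        rcases hcases x with h | h | h
        · exact Or.inl h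
        · exact Or.inr h
        · refine absurd ?_ hcO
          exact hclosed x hx (MulAction.mem_orbit_symm.1 h)
      have := Set.ncard_le_ncard hsub
      rw [Set.ncard_insert_of_notMem hab, hb, h891] at this
      omega
  have hle : ρ.range ≤ T := by
    rintro _ ⟨g, rfl⟩
    exact Subgroup.mem_comap.1 (hNtop ▸ Subgroup.mem_top g : g ∈ N)
  have heq : ρ.range = T := Subgroup.eq_of_le_of_card_ge hle (by
    rw [hTc, ← Nat.card_congr (MonoidHom.ofInjective hρinj).toEquiv, hcardG])
  exact ⟨(MonoidHom.ofInjective hρinj).trans ((MulEquiv.subgroupCongr heq).trans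
    (MonoidHom.ofInjective hσ).symm)⟩

end Cfsg.Agent.Spor.SuzRec
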