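import Cfsg.Agent.Lib.Spor.Cos.Act

/-! Search trees over zero-one unknowns. -/

set_option autoImplicit false

namespace Cfsg.Agent.Spor.SuzRec

/-- A search: a violated equation, a solution, or a case split on an unknown. -/
inductive STree where
  | bad (i : ℕ)
  | sol
  | node (v : ℕ) (l r : STree)

end Cfsg.Agent.Spor.SuzRec
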