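import Cfsg.Agent.Lib.Spor.SuzRec.Hom

/-! What the checks say about either side of the hexagon. -/

set_option autoImplicit false
set_option maxRecDepth 100000

open Cfsg.Agent.Spor.Cos Finset

namespace Cfsg.Agent.Spor.SuzRec

/-- A side with an action and its checks. -/
structure SideOk (S : Side) where
  /-- the action -/
  H : SideHom S.A
  hN : S.A.N = 1365
  hn : S.A.n = 6
  inv : ∀ p < S.A.N, S.A.chkInv p = true
  sub : chkSub S = true
  nbs : chkNbs S = true
  count : chkCount S = true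
  orbs : chkOrbs S = true

/-- The point side. -/
noncomputable def hexOk : SideOk hexS :=
  ⟨hexH, rfl, rfl, hexInv_ok, hexSub_ok, hexNbs_ok, hexCount_ok, hexOrbs_ok⟩

/-- The line side. -/
noncomputable def lineOk : SideOk lineS :=
  ⟨lineH, rfl, rfl, lineInv_ok, lineSub_ok, lineNbs_ok, lineCount_ok, lineOrbs_ok⟩

theorem fullMask_bit {p : ℕ} : bit fullMask p = true ↔ p < 1365 := by
  rw [bit_eq, fullMask, Nat.testBit_two_pow_sub_one, decide_eq_true_eq]

theorem getD_mem {l : List (List ℕ)} {k : ℕ} (hk : k < l.length) : l.getD k [] ∈ l := by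
  rw [List.getD_eq_getElem _ _ hk]; exact List.getElem_mem _

/-- The parts of the check of the suborbits. -/
structure SubParts (S : Side) : Prop where
  tree : chkTree S.A genW (S.root, S.tree) = true
  full : Nat.beq (maskOf (ptsOf (S.root, S.tree))) fullMask = true
  root : Nat.blt S.root 1365 = true
  fix : S.A.chkFix S.stW S.root = true
  t20 : chkTree S.A S.stW S.o20 = true
  c20 : ((ptsOf S.o20).length == 20 && ndB (ptsOf S.o20)) = true
  t320 : chkTree S.A S.stW S.o320 = true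
  c320 : ((ptsOf S.o320).length == 320 && ndB (ptsOf S.o320)) = true
  t1024 : chkTree S.A S.stW S.o1024 = true
  c1024 : ((ptsOf S.o1024).length == 1024 && ndB (ptsOf S.o1024)) = true
  cover : Nat.beq (maskOf (S.root :: (ptsOf S.o20 ++ ptsOf S.o320 ++ ptsOf S.o1024))) fullMask = true
  nd : ndB (S.root :: (ptsOf S.o20 ++ ptsOf S.o320 ++ ptsOf S.o1024)) = true

theorem subParts {S : Side} (h : chkSub S = true) : SubParts S := by
  simp only [chkSub, chkOrb, Bool.and_eq_true] at h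
  obtain ⟨⟨⟨⟨⟨⟨⟨⟨h1, h2⟩, h3⟩, h4⟩, ⟨a1, a2⟩, a3⟩, ⟨b1, b2⟩, b3⟩, ⟨c1, c2⟩, c3⟩, h5⟩, h6⟩ := h
  exact ⟨h1, h2, h3, h4, a1, Bool.and_eq_true_iff.2 ⟨a2, a3⟩, b1, Bool.and_eq_true_iff.2 ⟨b2, b3⟩, c1,
    Bool.and_eq_true_iff.2 ⟨c2, c3⟩, h5, h6⟩

variable {S : Side}

namespace SideOk

variable (h : SideOk S)

theorem root_lt (h : SideOk S) : S.root < S.A.N := by
  rw [h.hN]
  exact Nat.le_of_ble_eq_true (subParts h.sub).root

/-- The base. -/
noncomputable def o : Fin S.A.N := ⟨S.root, h.root_lt⟩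

include h in
theorem letters {W : List (List ℕ)} (hW : Act.lettersOk S.A.n W = true) {w : List ℕ} (hw : w ∈ W) :
    ∀ s ∈ w, s < 6 := fun s hs => h.hn ▸ Act.lt_of_lettersOk hW hw s hs

/-- The orbit by words: a property kept by them holds on it. -/
theorem tree_prop {W : List (List ℕ)} {o : ℕ × List (ℕ × ℕ × ℕ)} (ht : chkTree S.A W o = true)
    (Pr : Fin S.A.N → Prop) (hst : ∀ w ∈ W, ∀ p, Pr p → Pr (h.H.θ (ev gH w) p)) (ho : o.1 < S.A.N)
    (hr : Pr ⟨o.1, ho⟩) (p : Fin S.A.N) (hp : (p : ℕ) ∈ ptsOf o) : Pr p := by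
  obtain ⟨q, e, hq⟩ := conn_pts (fun x => ∃ q : Fin S.A.N, (q : ℕ) = x ∧ Pr q)
    (fun w hw x ⟨q, e, hq⟩ => ⟨_, (h.H.spec w (h.letters (tree_letters ht) hw) q).trans (by rw [e]),
      hst w hw q hq⟩) ht ⟨⟨o.1, ho⟩, rfl, hr⟩ _ hp
  rwa [Fin.ext e] at hq

theorem transitive (p : Fin S.A.N) : ∃ y : H0, h.H.θ y h.o = p := by
  have hs := subParts h.sub
  refine h.tree_prop (o := (S.root, S.tree)) hs.tree (fun q => ∃ y : H0, h.H.θ y h.o = q) ?_ h.root_lt
    ⟨1, by rw [map_one]; rfl⟩ p ?_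
  · rintro w hw q ⟨y, rfl⟩
    exact ⟨ev gH w * y, by rw [map_mul]; rfl⟩
  · rw [← bit_maskOf, Nat.eq_of_beq_eq_true hs.full, fullMask_bit]
    exact h.hN ▸ p.2

theorem stW_fix {w : List ℕ} (hw : w ∈ S.stW) : (∀ s ∈ w, s < 6) ∧ h.H.θ (ev gH w) h.o = h.o := by
  have hs := subParts h.sub
  have hl : ∀ s ∈ w, s < 6 := h.letters (tree_letters hs.t20) hw
  refine ⟨hl, Fin.ext ((h.H.spec w hl _).trans ?_)⟩
  exact Nat.eq_of_beq_eq_true (List.all_eq_true.1 hs.fix w hw)

theorem suborbits : chkTree S.A S.stW S.o20 = true ∧ chkTree S.A S.stW S.o320 = true ∧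
    chkTree S.A S.stW S.o1024 = true ∧
    (listSet (ptsOf S.o20) : Finset (Fin S.A.N)).card = 20 ∧
    (listSet (ptsOf S.o320) : Finset (Fin S.A.N)).card = 320 ∧
    (listSet (ptsOf S.o1024) : Finset (Fin S.A.N)).card = 1024 ∧
    ∀ p : Fin S.A.N, p = h.o ∨ (p : ℕ) ∈ ptsOf S.o20 ∨ (p : ℕ) ∈ ptsOf S.o320 ∨ (p : ℕ) ∈ ptsOf S.o1024 := by
  have hs := subParts h.sub
  have hm := hs.cover
  refine ⟨hs.t20, hs.t320, hs.t1024, card_tree hs.t20 hs.c20, card_tree hs.t320 hs.c320,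
    card_tree hs.t1024 hs.c1024, fun p => ?_⟩
  have hp : (p : ℕ) ∈ S.root :: (ptsOf S.o20 ++ ptsOf S.o320 ++ ptsOf S.o1024) := by
    rw [← bit_maskOf, Nat.eq_of_beq_eq_true hm, fullMask_bit]
    exact h.hN ▸ p.2
  simp only [List.mem_cons, List.mem_append] at hp
  rcases hp with e | (e | e) | e
  · exact Or.inl (Fin.ext e)
  · exact Or.inr (Or.inl e)
  · exact Or.inr (Or.inr (Or.inl e))
  · exact Or.inr (Or.inr (Or.inr e))

/-- An invariant set avoiding the base is a union of the three suborbits. -/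
theorem invariant_set (T : Finset (Fin S.A.N)) (hinv : ∀ w ∈ S.stW, ∀ p, p ∈ T ↔ h.H.θ (ev gH w) p ∈ T)
    (ho : h.o ∉ T) : ∃ b1 b2 b3 : Bool,
      T = (bif b1 then listSet (ptsOf S.o20) else ∅) ∪ (bif b2 then listSet (ptsOf S.o320) else ∅) ∪
        (bif b3 then listSet (ptsOf S.o1024) else ∅) := by
  classical
  obtain ⟨t1, t2, t3, -, -, -, hcov⟩ := h.suborbits
  have hcls : ∀ {t : ℕ × List (ℕ × ℕ × ℕ)} (ht : chkTree S.A S.stW t = true) (hlt : t.1 < S.A.N) (p : Fin S.A.N),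
      (p : ℕ) ∈ ptsOf t → (p ∈ T ↔ (⟨t.1, hlt⟩ : Fin S.A.N) ∈ T) := fun {t} ht hlt p hp =>
    h.tree_prop ht (fun q => q ∈ T ↔ (⟨t.1, hlt⟩ : Fin S.A.N) ∈ T)
      (fun w hw q hq => (hinv w hw q).symm.trans hq) hlt Iff.rfl p hp
  have l1 := tree_lt t1 (List.mem_cons_self ..)
  have l2 := tree_lt t2 (List.mem_cons_self ..)
  have l3 := tree_lt t3 (List.mem_cons_self ..)
  refine ⟨decide ((⟨_, l1⟩ : Fin S.A.N) ∈ T), decide ((⟨_, l2⟩ : Fin S.A.N) ∈ T),
    decide ((⟨_, l3⟩ : Fin S.A.N) ∈ T), Finset.ext fun p => ?_⟩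
  simp only [mem_union]
  constructor
  · intro hp
    rcases hcov p with e | e | e | e
    · exact absurd hp (e ▸ ho)
    · exact Or.inl (Or.inl (by rw [decide_eq_true ((hcls t1 l1 p e).1 hp)]; exact mem_listSet.2 e))
    · exact Or.inl (Or.inr (by rw [decide_eq_true ((hcls t2 l2 p e).1 hp)]; exact mem_listSet.2 e))
    · exact Or.inr (by rw [decide_eq_true ((hcls t3 l3 p e).1 hp)]; exact mem_listSet.2 e)
  · rintro ((e | e) | e)
    · by_cases hb : (⟨_, l1⟩ : Fin S.A.N) ∈ T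
      · rw [decide_eq_true hb] at e; exact (hcls t1 l1 p (mem_listSet.1 e)).2 hb
      · rw [decide_eq_false hb] at e; simp at e
    · by_cases hb : (⟨_, l2⟩ : Fin S.A.N) ∈ T
      · rw [decide_eq_true hb] at e; exact (hcls t2 l2 p (mem_listSet.1 e)).2 hb
      · rw [decide_eq_false hb] at e; simp at e
    · by_cases hb : (⟨_, l3⟩ : Fin S.A.N) ∈ T
      · rw [decide_eq_true hb] at e; exact (hcls t3 l3 p (mem_listSet.1 e)).2 hb
      · rw [decide_eq_false hb] at e; simp at e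

include h in
theorem clW_lt {k : ℕ} (hk : k < 20) : ∀ s ∈ S.clW.getD k [], s < 6 := by
  have hc := h.nbs
  simp only [chkNbs, Bool.and_eq_true] at hc
  obtain ⟨⟨⟨hl, -⟩, hlet⟩, -⟩ := hc
  exact Act.lt_of_lettersOk hlet (getD_mem (by rw [Nat.eq_of_beq_eq_true hl]; exact hk))

/-- The twenty points collinear to the base. -/
noncomputable def cp (k : Fin 20) : Fin S.A.N := h.H.θ (ev gH (S.clW.getD k [])) h.o

theorem cp_val (k : Fin 20) : (h.cp k : ℕ) = S.A.go (S.clW.getD k []) S.root :=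
  h.H.spec _ (h.clW_lt k.2) _

theorem cp_injective : Function.Injective h.cp := by
  intro i j e
  have hc := h.count
  simp only [chkCount, Bool.and_eq_true] at hc
  have hnd := nodup_of_ndB hc.1.2
  have hl : S.clW.length = 20 := by
    have hc' := h.nbs
    simp only [chkNbs, Bool.and_eq_true] at hc'
    exact Nat.eq_of_beq_eq_true hc'.1.1.1
  have hi : i.1 < S.clW.length := hl.symm ▸ i.2
  have hj : j.1 < S.clW.length := hl.symm ▸ j.2
  have e' := congrArg Fin.val e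
  rw [h.cp_val, h.cp_val, List.getD_eq_getElem _ _ hi, List.getD_eq_getElem _ _ hj] at e'
  have hi' : i.1 < (S.clW.map fun w => S.A.go w S.root).length := by rw [List.length_map]; exact hi
  have hj' : j.1 < (S.clW.map fun w => S.A.go w S.root).length := by rw [List.length_map]; exact hj
  exact Fin.ext ((hnd.getElem_inj_iff (hi := hi') (hj := hj')).1 (by rw [List.getElem_map, List.getElem_map]; exact e'))

/-- The points at distance two from an image of the base. -/
noncomputable def far (y : H0) : Finset (Fin S.A.N) := (listSet (ptsOf S.o320)).image (h.H.θ y)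

theorem mem_far {y : H0} {p : Fin S.A.N} :
    p ∈ h.far y ↔ ((h.H.θ y⁻¹ p : Fin S.A.N) : ℕ) ∈ ptsOf S.o320 := by
  rw [far, mem_image, map_inv]
  constructor
  · rintro ⟨q, hq, rfl⟩
    rw [show (h.H.θ y)⁻¹ (h.H.θ y q) = q from (h.H.θ y).symm_apply_apply q]
    exact mem_listSet.1 hq
  · exact fun hp => ⟨_, mem_listSet.2 hp, (h.H.θ y).apply_symm_apply p⟩

theorem far_one : h.far 1 = listSet (ptsOf S.o320) := by
  rw [far, map_one, Equiv.Perm.coe_one, image_id]

theorem far_cp (k : Fin 20) :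
    h.far (ev gH (S.clW.getD k [])) = listSet (S.nbs.getD k []) ∧ (S.nbs.getD k []).Nodup ∧
      ∀ x ∈ S.nbs.getD k [], x < S.A.N := by
  have hc := h.nbs
  simp only [chkNbs, Bool.and_eq_true, List.all_eq_true, List.mem_range] at hc
  have e : (ptsOf S.o320).map (fun x => S.A.go (S.clW.getD k []) x) = S.nbs.getD k [] :=
    beq_iff_eq.1 (hc.2 k k.2)
  have hlt : ∀ x ∈ ptsOf S.o320, x < S.A.N := fun x hx => tree_lt h.suborbits.2.1 hx
  have hnd : (ptsOf S.o320).Nodup := by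
    exact nodup_of_ndB (Bool.and_eq_true_iff.1 (subParts h.sub).c320).2
  have hgo : ∀ x : Fin S.A.N, (h.H.θ (ev gH (S.clW.getD k [])) x : ℕ) = S.A.go (S.clW.getD k []) x :=
    fun x => h.H.spec _ (h.clW_lt k.2) x
  refine ⟨?_, ?_, ?_⟩
  · ext p
    rw [mem_listSet, ← e, List.mem_map, far, mem_image]
    constructor
    · rintro ⟨q, hq, rfl⟩
      exact ⟨q, mem_listSet.1 hq, (hgo q).symm⟩
    · rintro ⟨x, hx, hx'⟩
      exact ⟨⟨x, hlt x hx⟩, mem_listSet.2 hx, Fin.ext ((hgo _).trans hx')⟩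
  · rw [← e]
    refine List.Nodup.map_on (fun x hx y hy hxy => ?_) hnd
    have := (h.H.θ (ev gH (S.clW.getD k []))).injective (a₁ := ⟨x, hlt x hx⟩) (a₂ := ⟨y, hlt y hy⟩)
      (Fin.ext (by rw [hgo, hgo]; exact hxy))
    exact congrArg Fin.val this
  · rw [← e]
    intro x hx
    obtain ⟨z, hz, rfl⟩ := List.mem_map.1 hx
    exact (hgo ⟨z, hlt z hz⟩) ▸ (h.H.θ _ _).2

/-- Common neighbours of two collinear points beyond the far part. -/
theorem card_far_inter {y : H0} (m : ℕ) (hm : h.far y = Finset.univ.filter fun p : Fin S.A.N => bit m p = true)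
    (k : Fin 20) : (h.far y ∩ h.far (ev gH (S.clW.getD k []))).card =
      ((S.nbs.getD k []).filter fun x => bit m x).length := by
  obtain ⟨e, hnd, hlt⟩ := h.far_cp k
  have hl : ((S.nbs.getD k []).filter fun x => bit m x).Nodup := hnd.filter _
  rw [← card_listSet (n := S.A.N) hl fun q hq => hlt q (List.mem_of_mem_filter hq), hm, e]
  congr 1
  ext p
  simp only [mem_inter, mem_filter, mem_univ, true_and, mem_listSet, List.mem_filter]
  exact and_comm

theorem far_cp_mask (k : Fin 20) : h.far (ev gH (S.clW.getD k [])) =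
    Finset.univ.filter fun p : Fin S.A.N => bit (maskOf (S.nbs.getD k [])) p = true := by
  rw [(h.far_cp k).1]
  ext p
  simp [mem_listSet, bit_maskOf]

theorem far_one_mask : h.far 1 =
    Finset.univ.filter fun p : Fin S.A.N => bit (maskOf (ptsOf S.o320)) p = true := by
  rw [h.far_one]
  ext p
  simp [mem_listSet, bit_maskOf]

end SideOk

end Cfsg.Agent.Spor.SuzRec
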