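import Cfsg.Agent.Lib.Spor.SuzRec.Local
import Cfsg.Agent.Lib.Spor.SuzRec.Geo
import Cfsg.Agent.Lib.Spor.SuzRec.Srg

/-! The graph of a rank three group of degree 1782 with point stabiliser `G₂(4)` is determined. -/

set_option autoImplicit false
set_option maxRecDepth 100000
set_option maxHeartbeats 1000000

open Cfsg.Agent.Spor.Cos Finset

namespace Cfsg.Agent.Spor.SuzRec

open Fus.GTwoJ2 (oAll oSmall)

/-- The standard labelling of a graph. -/
structure Std {Ω : Type*} (Γ : SimpleGraph Ω) (r : H0 →* Equiv.Perm Ω) (Φ : V → Ω) : Prop where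
  bij : Function.Bijective Φ
  equiv : ∀ y v, Φ (piV y v) = r y (Φ v)
  inv : ∀ y x z, Γ.Adj (r y x) (r y z) ↔ Γ.Adj x z
  base : ∀ v, Γ.Adj (Φ v0) (Φ v) ↔ oAll.mem v = true
  near : ∀ v : V, oAll.mem v = true → (Γ.Adj (Φ u0) (Φ v) ↔ oSmall.mem v = true)
  mixed : ∀ q, Γ.Adj (Φ u0) (Φ (emb q)) ↔ InR q
  far : ∀ q, Γ.Adj (Φ (emb hexO)) (Φ (emb q)) ↔ (q : ℕ) ∈ ptsOf hexO320

theorem piV_inv_self (y : H0) (v : V) : piV y (piV y⁻¹ v) = v := by
  rw [map_inv]; exact (piV y).apply_symm_apply v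

theorem theta_inv_self (y : H0) (p : Fin hexA.N) : hexH.θ y (hexH.θ y⁻¹ p) = p := by
  rw [map_inv]; exact (hexH.θ y).apply_symm_apply p

/-- Two standard labellings agree. -/
theorem Std.adj_iff {Ω Ω' : Type*} {Γ : SimpleGraph Ω} {Γ' : SimpleGraph Ω'} {r : H0 →* Equiv.Perm Ω}
    {r' : H0 →* Equiv.Perm Ω'} {Φ : V → Ω} {Φ' : V → Ω'} (h : Std Γ r Φ) (h' : Std Γ' r' Φ') (x z : V) :
    Γ.Adj (Φ x) (Φ z) ↔ Γ'.Adj (Φ' x) (Φ' z) := by
  have hnear : ∀ {x : V}, oAll.mem x = true → ∀ z, Γ.Adj (Φ x) (Φ z) ↔ Γ'.Adj (Φ' x) (Φ' z) := by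
    intro x hx z
    rcases kind_cases z with ⟨rfl, -⟩ | ⟨hz, -⟩ | ⟨q, rfl⟩
    · rw [Γ.adj_comm, Γ'.adj_comm, h.base, h'.base]
    · obtain ⟨y, rfl⟩ := near_orbit hx
      have hz' : oAll.mem (piV y⁻¹ z) = true := near_piV y⁻¹ hz
      rw [← piV_inv_self y z, h.equiv, h.equiv, h'.equiv, h'.equiv, h.inv, h'.inv, h.near _ hz', h'.near _ hz']
    · obtain ⟨y, rfl⟩ := near_orbit hx
      rw [← theta_inv_self y q, ← piV_emb, h.equiv, h.equiv, h'.equiv, h'.equiv, h.inv, h'.inv, h.mixed, h'.mixed]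
  rcases kind_cases x with ⟨rfl, -⟩ | ⟨hx, -⟩ | ⟨p, rfl⟩
  · rw [h.base, h'.base]
  · exact hnear hx z
  · rcases kind_cases z with ⟨rfl, -⟩ | ⟨hz, -⟩ | ⟨q, rfl⟩
    · rw [Γ.adj_comm, Γ'.adj_comm, h.base, h'.base]
    · rw [Γ.adj_comm, Γ'.adj_comm]
      exact hnear hz _
    · obtain ⟨y, hy⟩ := hexOk.transitive p
      have hy' : hexH.θ y hexO = p := hy
      rw [← hy', ← theta_inv_self y q, ← piV_emb, ← piV_emb, h.equiv, h.equiv, h'.equiv, h'.equiv, h.inv, h'.inv,
        h.far, h'.far]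

section

variable {Ω : Type*} [Fintype Ω] [DecidableEq Ω] {Γ : SimpleGraph Ω} [DecidableRel Γ.Adj] {a : Ω}
  {r : H0 →* Equiv.Perm Ω} {l m : ℕ}

/-- The set of a near vertex kept by the five-group meets collinear points in ten or three. -/
theorem Far.ten_three_all {S : Side} {h : SideOk S} {φ : Fin S.A.N → Ω} (hA : Around Γ a r l m)
    (hF : Far h Γ a r φ) {u : Ω} (hu : Γ.Adj a u) (y : H0) :
    #(univ.filter fun k : Fin 20 => Γ.Adj u (φ (h.H.θ y (h.cp k)))) =
      if Γ.Adj u (φ (h.H.θ y h.o)) then 10 else 3 := by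
  have hu' : Γ.Adj a (r y⁻¹ u) := by
    rw [← hA.fix y⁻¹, hA.inv]; exact hu
  have key := hF.ten_three hA hu'
  have e : ∀ p, Γ.Adj u (φ (h.H.θ y p)) ↔ Γ.Adj (r y⁻¹ u) (φ p) := fun p => by
    conv_lhs => rw [hF.equiv, ← perm_smul_inv (r := r) y u, hA.inv]
  simp only [e]
  exact key

theorem Far.five_inv {S : Side} {h : SideOk S} {φ : Fin S.A.N → Ω} (hA : Around Γ a r l m)
    (hF : Far h Γ a r φ) {u : Ω} (hu5 : ∀ y ∈ fiveGens, r y u = u) :
    ∀ y ∈ fiveGens, ∀ p, Γ.Adj u (φ (h.H.θ y p)) ↔ Γ.Adj u (φ p) := fun y hy p => by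
  conv_lhs => rw [hF.equiv, ← hu5 y hy, hA.inv]

end

/-- An orbit of the point stabiliser as cosets of a point stabiliser in it. -/
theorem exists_equivariant {Ω : Type*} {N : ℕ} (π : H0 →* Equiv.Perm (Fin N)) (r : H0 →* Equiv.Perm Ω) (o : Fin N)
    (x : Ω) (htr : ∀ p, ∃ y, π y o = p) (hst : ∀ y, π y o = o ↔ r y x = x) :
    ∃ φ : Fin N → Ω, Function.Injective φ ∧ (∀ y p, φ (π y p) = r y (φ p)) ∧ φ o = x := by
  choose w hw using htr
  have key : ∀ y z, π y o = π z o ↔ r y x = r z x := by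
    intro y z
    have h1 := hst (z⁻¹ * y)
    rw [map_mul, map_mul, map_inv, map_inv, Equiv.Perm.mul_apply, Equiv.Perm.mul_apply, Equiv.Perm.inv_eq_iff_eq,
      Equiv.Perm.inv_eq_iff_eq] at h1
    exact ⟨fun e => h1.1 e, fun e => h1.2 e⟩
  refine ⟨fun p => r (w p) x, fun p q e => ?_, fun y p => ?_, (hst _).1 (hw o)⟩
  · rw [← hw p, ← hw q]; exact (key _ _).2 e
  · show r (w (π y p)) x = r y (r (w p) x)
    rw [← Equiv.Perm.mul_apply, ← map_mul]
    exact (key _ _).1 (by rw [hw, map_mul, Equiv.Perm.mul_apply, hw])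

/-- The graph and a standard labelling. -/
theorem exists_std {Ω : Type*} [Fintype Ω] [DecidableEq Ω] (hΩ : Fintype.card Ω = 1782)
    (G : Subgroup (Equiv.Perm Ω)) [MulAction.IsPretransitive G Ω] (a : Ω) (ψ : H0 ≃* MulAction.stabilizer G a)
    (b c : Ω) (hb : (MulAction.orbit (MulAction.stabilizer G a) b).ncard = 416)
    (hc : (MulAction.orbit (MulAction.stabilizer G a) c).ncard = 1365) :
    ∃ (Γ : SimpleGraph Ω) (Φ : V → Ω), (∀ (g : G) x z, Γ.Adj (g • x) (g • z) ↔ Γ.Adj x z) ∧ Φ v0 = a ∧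
      Std Γ (((G.subtype.comp (MulAction.stabilizer G a).subtype).comp ψ.toMonoidHom)) Φ := by
  classical
  obtain ⟨hab, hcases⟩ := orbit_cases hΩ hb hc
  obtain ⟨Γ, _, l, m, hO⟩ := exists_orbital hΩ hb hc
  set r : H0 →* Equiv.Perm Ω := (G.subtype.comp (MulAction.stabilizer G a).subtype).comp ψ.toMonoidHom with hr
  have hry : ∀ y x, r y x = ((ψ y : (MulAction.stabilizer G a)) : G) • x := fun y x => rfl
  have hfix : ∀ y, r y a = a := fun y => (ψ y).2
  have hA : Around Γ a r l m :=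
    ⟨fun y x z => hO.inv _ x z, hfix, hO.deg, hO.adj, hO.nadj, hO.count⟩
  have hcard : Nat.card (MulAction.stabilizer G a) = 251596800 := (Nat.card_congr ψ.toEquiv).symm.trans card_H0
  -- the stabiliser of a vertex in the group
  let Sx : Ω → Subgroup H0 := fun x => (MulAction.stabilizer (MulAction.stabilizer G a) x).comap ψ.toMonoidHom
  have hSx : ∀ x y, y ∈ Sx x ↔ r y x = x := fun x y => Iff.rfl
  have hSxc : ∀ x : Ω, (MulAction.orbit (MulAction.stabilizer G a) x).ncard * Nat.card (Sx x) = 251596800 := fun x => by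
    rw [← hcard, ← Nat.card_coe_set_eq, show Nat.card (Sx x) = Nat.card (MulAction.stabilizer (MulAction.stabilizer G a) x) from
      Nat.card_congr (ψ.toEquiv.subtypeEquiv fun y => Iff.rfl), ← Nat.card_prod]
    exact Nat.card_congr (MulAction.orbitProdStabilizerEquivGroup (MulAction.stabilizer G a) x)
  have horb : ∀ x y, r y x ∈ MulAction.orbit (MulAction.stabilizer G a) x := fun x y => ⟨ψ y, rfl⟩
  have horb' : ∀ x z, z ∈ MulAction.orbit (MulAction.stabilizer G a) x → ∃ y, r y x = z := fun x z ⟨g, hg⟩ =>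
    ⟨ψ.symm g, by rw [hry, ψ.apply_symm_apply]; exact hg⟩
  have hfar : ∀ x, (x ≠ a ∧ ¬ Γ.Adj a x) ↔ x ∈ MulAction.orbit (MulAction.stabilizer G a) c := by
    have hca : a ∉ MulAction.orbit (MulAction.stabilizer G a) c := fun e => by
      rw [← MulAction.orbit_eq_iff.2 e] at hc
      have : MulAction.orbit (MulAction.stabilizer G a) a = {a} := by
        ext y
        simp only [MulAction.mem_orbit_iff, Set.mem_singleton_iff]
        exact ⟨fun ⟨g, hg⟩ => hg ▸ g.2, fun e' => ⟨1, by rw [e', one_smul]⟩⟩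
      rw [this, Set.ncard_singleton] at hc
      omega
    intro x
    rw [hO.nbr]
    constructor
    · intro hx
      rcases hcases x with e | e | e
      · exact absurd e hx.1
      · exact absurd e hx.2
      · exact e
    · intro hx
      refine ⟨fun e => hca (e ▸ hx), fun e => ?_⟩
      rw [← MulAction.orbit_eq_iff.2 hx, MulAction.orbit_eq_iff.2 e, hb] at hc
      omega
  -- a far vertex with the stabiliser of a point or of a line
  have hT : Nat.card (Sx c) = 184320 := by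
    have := hSxc c
    rw [hc] at this
    omega
  obtain ⟨g, hg⟩ := exists_conj (Sx c) hT
  set c' := r g c with hc'
  have hc'o : c' ∈ MulAction.orbit (MulAction.stabilizer G a) c := horb c g
  have hstab : ∀ y, r y c' = c' ↔ g⁻¹ * y * g ∈ Sx c := by
    intro y
    rw [hSx, hc']
    constructor
    · intro e
      rw [map_mul, map_mul, Equiv.Perm.mul_apply, Equiv.Perm.mul_apply, e, perm_inv_smul]
    · intro e
      rw [map_mul, map_mul, Equiv.Perm.mul_apply, Equiv.Perm.mul_apply] at e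
      have := congrArg (r g) e
      rwa [perm_smul_inv] at this
  have hFar : ∀ {S : Side} (h : SideOk S), (∀ y, y ∈ Sx c ↔ g * y * g⁻¹ ∈ h.St) →
      ∃ φ, Far h Γ a r φ := by
    intro S h hh
    obtain ⟨φ, hinj, heq, ho⟩ := exists_equivariant h.H.θ r h.o c' h.transitive fun y => by
      rw [hstab, hh, show g * (g⁻¹ * y * g) * g⁻¹ = y by group, h.mem_St]
    refine ⟨φ, hinj, fun x => ?_, heq⟩
    rw [hfar]
    constructor
    · intro hx
      obtain ⟨y, rfl⟩ := horb' c' x (by rw [MulAction.orbit_eq_iff.2 hc'o]; exact hx)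
      exact ⟨h.H.θ y h.o, by rw [heq, ho]⟩
    · rintro ⟨p, rfl⟩
      obtain ⟨y, rfl⟩ := h.transitive p
      rw [heq, ho, ← MulAction.orbit_eq_iff.2 hc'o]
      exact horb c' y
  -- a near vertex fixed by the five-group
  have hba : Γ.Adj a b := (hO.nbr b).2 (MulAction.mem_orbit_self b)
  have hB : Nat.card (Sx b) = 604800 := by
    have := hSxc b
    rw [hb] at this
    omega
  have : Fact (Nat.Prime 5) := ⟨by norm_num⟩
  obtain ⟨R, hR⟩ := Sylow.exists_subgroup_card_pow_prime 5 (G := Sx b) (n := 2) (by rw [hB]; norm_num)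
  obtain ⟨P, hP⟩ := isPGroup_Q5.exists_le_sylow
  have hR' : Nat.card (R.map (Sx b).subtype) = 5 ^ (Nat.card H0).factorization 5 := by
    rw [← Nat.card_congr (Subgroup.equivMapOfInjective R _ (Sx b).subtype_injective).toEquiv, hR, card_H0,
      show 251596800 = 5 ^ 2 * 10063872 by norm_num, Nat.factorization_mul (by norm_num) (by norm_num),
      Finsupp.add_apply, Nat.Prime.factorization_pow (by norm_num : Nat.Prime 5),
      Nat.factorization_eq_zero_of_not_dvd (show ¬ 5 ∣ 10063872 by norm_num)]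
    simp
  obtain ⟨k, hk⟩ := MulAction.exists_smul_eq H0 (Sylow.ofCard _ hR') P
  set u := r k b with hu
  have hau : Γ.Adj a u := by rw [hu, ← hfix k, hA.inv]; exact hba
  have hu5 : ∀ y ∈ fiveGens, r y u = u := by
    intro y hy
    have h1 : y ∈ ((k • Sylow.ofCard _ hR' : Sylow 5 H0) : Subgroup H0) := by
      rw [hk]; exact hP (Subgroup.subset_closure hy)
    have h2 : y ∈ (R.map (Sx b).subtype).map (MulAut.conj k).toMonoidHom := h1
    obtain ⟨z, ⟨q, -, rfl⟩, e⟩ := h2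
    have e' : k * q * k⁻¹ = y := e
    rw [← e', hu, map_mul, map_mul, Equiv.Perm.mul_apply, Equiv.Perm.mul_apply, perm_inv_smul, (hSx b q).1 q.2]
  -- it is a point
  obtain ⟨φ, hF⟩ : ∃ φ, Far hexOk Γ a r φ := by
    rcases hg with hg | hg
    · exact hFar hexOk hg
    · exfalso
      obtain ⟨φ, hF⟩ := hFar lineOk hg
      exact line_search (fun p => Γ.Adj u (φ p)) (hF.five_inv hA hu5)
        (hF.ten_three_all hA hau)
  obtain ⟨hl, hm, hfar320⟩ := hF.params hA
  have hR0 : ∀ p : Fin hexA.N, Γ.Adj u (φ p) ↔ InR p :=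
    hex_search (fun p => Γ.Adj u (φ p)) (hF.five_inv hA hu5)
      (hF.ten_three_all hA hau)
  -- its stabiliser is J₂
  have huc : Nat.card (Sx u) = 604800 := by
    have h1 := hSxc u
    rw [MulAction.orbit_eq_iff.2 (show u ∈ MulAction.orbit (MulAction.stabilizer G a) b from horb b k), hb] at h1
    omega
  have hSu : Sx u = J := by
    refine Subgroup.eq_of_le_of_card_ge ?_ (by rw [card_J, huc])
    rw [← stR_eq]
    intro y hy p
    refine Iff.trans (hR0 (hexH.θ y p)).symm (Iff.trans ?_ (hR0 p))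
    conv_lhs => rw [show φ (hexH.θ y p) = r y (φ p) from hF.equiv y p, ← (hSx u y).1 hy, hA.inv]
  have hst : ∀ y, piV y u0 = u0 ↔ r y u = u := fun y => by rw [← mem_J, ← hSu, hSx]
  -- the labelling
  have key : ∀ y z, piV y u0 = piV z u0 ↔ r y u = r z u := by
    intro y z
    have h1 := hst (z⁻¹ * y)
    rw [map_mul, map_mul, map_inv, map_inv, Equiv.Perm.mul_apply, Equiv.Perm.mul_apply, Equiv.Perm.inv_eq_iff_eq,
      Equiv.Perm.inv_eq_iff_eq] at h1
    exact h1
  let Φ : V → Ω := fun v =>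
    if v = v0 then a
    else if hv : oAll.mem v = true then r (near_orbit hv).choose u
    else if hv' : ∃ p, emb p = v then φ hv'.choose else a
  have hΦ0 : Φ v0 = a := by simp [Φ]
  have hΦn : ∀ y, Φ (piV y u0) = r y u := fun y => by
    have hm' := near_piV y near_u0
    simp only [Φ, if_neg (near_ne_v0 hm'), dif_pos hm']
    exact (key _ _).1 (near_orbit hm').choose_spec
  have hΦe : ∀ p, Φ (emb p) = φ p := fun p => by
    have h' : ∃ q, emb q = emb p := ⟨p, rfl⟩
    simp only [Φ, if_neg emb_ne_v0, dif_neg (show ¬ oAll.mem (emb p) = true by rw [emb_ne_near]; simp), dif_pos h']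
    exact congrArg φ (emb_injective h'.choose_spec)
  have hΦu : Φ u0 = u := by
    have := hΦn 1
    rwa [map_one, map_one, Equiv.Perm.one_apply, Equiv.Perm.one_apply] at this
  have hequiv : ∀ y v, Φ (piV y v) = r y (Φ v) := by
    intro y v
    rcases kind_cases v with ⟨rfl, -⟩ | ⟨hv, -⟩ | ⟨p, rfl⟩
    · rw [piV_v0, hΦ0, hfix]
    · obtain ⟨z, rfl⟩ := near_orbit hv
      rw [← Equiv.Perm.mul_apply, ← map_mul, hΦn, hΦn, map_mul, Equiv.Perm.mul_apply]
    · rw [piV_emb, hΦe, hΦe]; exact hF.equiv y p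
  have hnadj : ∀ y, Γ.Adj a (r y u) := fun y => by rw [← hfix y, hA.inv]; exact hau
  have hinj : Function.Injective Φ := by
    intro x z e
    rcases kind_cases x with ⟨rfl, -⟩ | ⟨hx, -⟩ | ⟨p, rfl⟩ <;> rcases kind_cases z with ⟨rfl, -⟩ | ⟨hz, -⟩ | ⟨q, rfl⟩
    · rfl
    · obtain ⟨y, rfl⟩ := near_orbit hz
      rw [hΦ0, hΦn] at e
      exact absurd (hnadj y) (e ▸ Γ.irrefl)
    · rw [hΦ0, hΦe] at e
      exact absurd e.symm (hF.not_adj q).1
    · obtain ⟨y, rfl⟩ := near_orbit hx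
      rw [hΦ0, hΦn] at e
      exact absurd (hnadj y) (e ▸ Γ.irrefl)
    · obtain ⟨y, rfl⟩ := near_orbit hx
      obtain ⟨y', rfl⟩ := near_orbit hz
      rw [hΦn, hΦn] at e
      exact (key _ _).2 e
    · obtain ⟨y, rfl⟩ := near_orbit hx
      rw [hΦn, hΦe] at e
      exact absurd (hnadj y) (e ▸ (hF.not_adj q).2)
    · rw [hΦ0, hΦe] at e
      exact absurd e (hF.not_adj p).1
    · obtain ⟨y, rfl⟩ := near_orbit hz
      rw [hΦn, hΦe] at e
      exact absurd (hnadj y) (e ▸ (hF.not_adj p).2)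
    · rw [hΦe, hΦe] at e
      rw [hF.inj e]
  have hbij : Function.Bijective Φ := (Fintype.bijective_iff_injective_and_card Φ).2 ⟨hinj, by
    rw [hΩ, Fintype.card_fin]; rfl⟩
  have hbase : ∀ v, Γ.Adj (Φ v0) (Φ v) ↔ oAll.mem v = true := by
    intro v
    rw [hΦ0]
    rcases kind_cases v with ⟨rfl, -⟩ | ⟨hv, -⟩ | ⟨p, rfl⟩
    · rw [hΦ0]
      exact iff_of_false Γ.irrefl fun h => near_ne_v0 h rfl
    · obtain ⟨y, rfl⟩ := near_orbit hv
      rw [hΦn]
      exact iff_of_true (hnadj y) hv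
    · rw [hΦe, emb_ne_near]
      exact iff_of_false (hF.not_adj p).2 Bool.false_ne_true
  refine ⟨Γ, Φ, hO.inv, hΦ0, hbij, hequiv, hA.inv, hbase, fun v hv => ?_, fun q => by rw [hΦu, hΦe]; exact hR0 q,
    fun q => by rw [hΦe, hΦe]; exact hfar320 q⟩
  -- the hundred common neighbours
  set T : Finset V := univ.filter fun v : V => oAll.mem v = true ∧ Γ.Adj u (Φ v)
  have hTc : #T = 100 := by
    rw [← card_image_of_injective T hinj, ← hl, ← hO.adj a u hau]
    congr 1
    ext z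
    obtain ⟨v, rfl⟩ := hbij.2 z
    rw [mem_image, mem_filter]
    have := hbase v
    rw [hΦ0] at this
    constructor
    · rintro ⟨v', hv', e⟩
      obtain rfl := hinj e
      exact ⟨mem_univ _, this.2 (mem_filter.1 hv').2.1, (mem_filter.1 hv').2.2⟩
    · rintro ⟨-, h1, h2⟩
      exact ⟨v, mem_filter.2 ⟨mem_univ _, this.1 h1, h2⟩, rfl⟩
  have hTinv : ∀ y ∈ J, ∀ v, v ∈ T → piV y v ∈ T := by
    intro y hy v hv'
    obtain ⟨-, h1, h2⟩ := mem_filter.1 hv'
    refine mem_filter.2 ⟨mem_univ _, near_piV y h1, ?_⟩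
    rw [hequiv, ← (hst y).1 (mem_J.1 hy), hA.inv]
    exact h2
  have := nbr_near T (fun v hv' => (mem_filter.1 hv').2.1) (by simp [T, hΦu]) hTinv hTc hv
  rw [hΦu, ← this]
  simp [T, hv]

end Cfsg.Agent.Spor.SuzRec
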